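import Groth.Agent.Et18.DefT1
import Groth.Agent.ArtFunLib.ObsHR
import Mathlib.RingTheory.TensorProduct.MvPolynomial
import Mathlib.LinearAlgebra.Finsupp.LinearCombination

/-!
# The obstruction class of a presented deformation of an affine scheme
-/

set_option autoImplicit false
set_option backward.isDefEq.respectTransparency.types false
set_option linter.style.haveILetI false
universe u

open ArtFun ArtFun.Art CategoryTheory
open scoped TensorProduct

noncomputable section

namespace Groth.Agent.AffObs29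

variable {k : Type u} [Field k] {ι σ : Type u} {C' C : Art k k}

/-- reduction of polynomials -/
abbrev red (A : Art k k) : MvPolynomial ι A →+* MvPolynomial ι k :=
  MvPolynomial.map (A.res : (A : Type u) →+* k)

/-- change of coefficients -/
abbrev cmap (p : C' ⟶ C) : MvPolynomial ι C' →+* MvPolynomial ι C :=
  MvPolynomial.map (p.toAlgHom : (C' : Type u) →+* C)

theorem red_cmap (p : C' ⟶ C) (z : MvPolynomial ι C') : red C (cmap p z) = red C' z := by
  simp only [red, cmap, MvPolynomial.map_map]
  exact congrArg (fun f => MvPolynomial.map f z) (congrArg AlgHom.toRingHom p.res_comp)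

theorem cmap_surjective (p : C' ⟶ C) (hp : Function.Surjective p) :
    Function.Surjective (cmap p : MvPolynomial ι C' →+* _) :=
  MvPolynomial.map_surjective _ hp

theorem red_surjective (A : Art k k) : Function.Surjective (red A : MvPolynomial ι A →+* _) :=
  MvPolynomial.map_surjective _ A.res_surjective

section Vec

variable {R R' : Type u} [CommRing R] [CommRing R'] (g : R →+* R')

/-- coefficientwise image -/
abbrev vmap : (σ →₀ R) →+ (σ →₀ R') := Finsupp.mapRange.addMonoidHom g.toAddMonoidHom

theorem vmap_smul (c : R) (v : σ →₀ R) : vmap g (c • v) = g c • vmap g v :=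
  Finsupp.ext fun s => by simp

theorem vmap_surjective (hg : Function.Surjective g) : Function.Surjective (vmap (σ := σ) g) :=
  Finsupp.mapRange_surjective g (map_zero g) hg

theorem map_lc (F : σ → R) (v : σ →₀ R) :
    g (Finsupp.linearCombination R F v) = Finsupp.linearCombination R' (g ∘ F) (vmap g v) := by
  induction v using Finsupp.induction_linear with
  | zero => simp
  | add v w hv hw => rw [map_add, map_add, hv, hw, map_add (vmap g), map_add]
  | single s a => simp [Finsupp.linearCombination_single]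

end Vec

theorem smul_vec (c : (C : Type u)) (v : σ →₀ MvPolynomial ι C) :
    c • v = (MvPolynomial.C c : MvPolynomial ι C) • v :=
  Finsupp.ext fun s => by simp [MvPolynomial.smul_eq_C_mul]

theorem red_C (c : (C : Type u)) : red C (MvPolynomial.C c : MvPolynomial ι C) = MvPolynomial.C (C.res c) :=
  MvPolynomial.map_C _ _

/-- Vectors with coefficients in the maximal ideal. -/
theorem max_induction {motive : (σ →₀ MvPolynomial ι C) → Prop} (h0 : motive 0)
    (hadd : ∀ v w, motive v → motive w → motive (v + w))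
    (hsmul : ∀ (c : (C : Type u)), C.res c = 0 → ∀ v, motive (c • v))
    {v : σ →₀ MvPolynomial ι C} (hv : vmap (red C) v = 0) : motive v := by
  classical
  rw [← Finsupp.sum_single v]
  refine Finset.sum_induction _ motive hadd h0 fun s _ => ?_
  show motive (Finsupp.single s (v s))
  rw [MvPolynomial.as_sum (v s), Finsupp.single_finsetSum]
  refine Finset.sum_induction _ motive hadd h0 fun m _ => ?_
  have he : Finsupp.single s (MvPolynomial.monomial m (MvPolynomial.coeff m (v s))) =
      MvPolynomial.coeff m (v s) • Finsupp.single s (MvPolynomial.monomial m (1 : (C : Type u))) := by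
    rw [Finsupp.smul_single, MvPolynomial.smul_monomial, smul_eq_mul, mul_one]
  rw [he]
  refine hsmul _ ?_ _
  have h := congrArg (fun z => MvPolynomial.coeff m z) (DFunLike.congr_fun hv s)
  simpa [red, MvPolynomial.coeff_map] using h

/-- A sequence lifting `f`, with a linear way to write the members of the ideal it generates. -/
structure Pack (f : σ → MvPolynomial ι k) (C : Art k k) where
  /-- the sequence -/
  F : σ → MvPolynomial ι C
  red_F : ∀ s, red C (F s) = f s
  /-- the coefficients -/
  h : MvPolynomial ι C →ₗ[(C : Type u)] (σ →₀ MvPolynomial ι C)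
  lc_h : ∀ z ∈ Ideal.span (Set.range F), Finsupp.linearCombination _ F (h z) = z

namespace Pack

variable {f : σ → MvPolynomial ι k} (𝔓 : Pack f C)

theorem red_comp : (red C) ∘ 𝔓.F = f := funext 𝔓.red_F

/-- Normalisation of vectors to relations. -/
def e (v : σ →₀ MvPolynomial ι C) : σ →₀ MvPolynomial ι C :=
  v - 𝔓.h (Finsupp.linearCombination _ 𝔓.F v)

theorem lc_e (v : σ →₀ MvPolynomial ι C) : Finsupp.linearCombination _ 𝔓.F (𝔓.e v) = 0 := by
  rw [e, map_sub, 𝔓.lc_h _ ?_, sub_self]
  show _ ∈ Submodule.span _ _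
  rw [← Finsupp.range_linearCombination]
  exact ⟨v, rfl⟩

theorem e_add (v w : σ →₀ MvPolynomial ι C) : 𝔓.e (v + w) = 𝔓.e v + 𝔓.e w := by
  rw [e, e, e, map_add, map_add]; abel

theorem e_smul (c : (C : Type u)) (v : σ →₀ MvPolynomial ι C) : 𝔓.e (c • v) = c • 𝔓.e v := by
  rw [e, e, smul_sub, smul_vec c v, map_smul, smul_eq_mul, ← MvPolynomial.smul_eq_C_mul, map_smul,
    ← smul_vec c v]

/-- Relations lift. -/
theorem exists_rel {a : σ →₀ MvPolynomial ι k} (ha : Finsupp.linearCombination _ f a = 0) :
    ∃ v, vmap (red C) v = a ∧ Finsupp.linearCombination _ 𝔓.F v = 0 := by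
  obtain ⟨v₀, rfl⟩ := vmap_surjective (red C) (red_surjective C) a
  refine ⟨𝔓.e v₀, ?_, 𝔓.lc_e v₀⟩
  have hz : red C (Finsupp.linearCombination _ 𝔓.F v₀) = 0 := by rw [map_lc, 𝔓.red_comp, ha]
  rw [e, map_sub, sub_eq_self]
  generalize Finsupp.linearCombination _ 𝔓.F v₀ = z at hz
  rw [MvPolynomial.as_sum z, map_sum, map_sum]
  refine Finset.sum_eq_zero fun m _ => ?_
  have : MvPolynomial.monomial m (MvPolynomial.coeff m z) =
      MvPolynomial.coeff m z • MvPolynomial.monomial m (1 : (C : Type u)) := by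
    rw [MvPolynomial.smul_monomial, smul_eq_mul, mul_one]
  rw [this, map_smul, smul_vec, vmap_smul, red_C]
  have h := congrArg (fun w => MvPolynomial.coeff m w) hz
  simp only [red, MvPolynomial.coeff_map, MvPolynomial.coeff_zero] at h
  rw [show C.res (MvPolynomial.coeff m z) = 0 from h, map_zero, zero_smul]

/-- Relations with coefficients in the maximal ideal come from relations. -/
theorem rel_induction {motive : (σ →₀ MvPolynomial ι C) → Prop} (h0 : motive 0)
    (hadd : ∀ v w, motive v → motive w → motive (v + w))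
    (hsmul : ∀ (c : (C : Type u)), C.res c = 0 → ∀ v, Finsupp.linearCombination _ 𝔓.F v = 0 → motive (c • v))
    {v : σ →₀ MvPolynomial ι C} (hv : vmap (red C) v = 0)
    (hv' : Finsupp.linearCombination _ 𝔓.F v = 0) : motive v := by
  have h : motive (𝔓.e v) := max_induction (motive := fun w => motive (𝔓.e w))
    (by rwa [show 𝔓.e 0 = 0 by simp [e]]) (fun a b ha hb => by rw [e_add]; exact hadd _ _ ha hb)
    (fun c hc w => by rw [e_smul]; exact hsmul c hc _ (𝔓.lc_e w)) hv
  rwa [e, hv', map_zero, sub_zero] at h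

end Pack

section Class

variable {B₀ : Type u} [CommRing B₀] [Algebra k B₀] [Algebra (MvPolynomial ι k) B₀]
  [IsScalarTower k (MvPolynomial ι k) B₀] (p : C' ⟶ C)

set_option quotPrecheck false in
local notation "J" => ↥(RingHom.ker p.toAlgHom)

/-- A linear retraction onto the kernel. -/
theorem exists_retraction : ∃ π : (C' : Type u) →ₗ[k] J, ∀ j : J, π (j : C') = j := by
  let i : J →ₗ[k] (C' : Type u) :=
    { toFun := fun j => (j : C'), map_add' := fun _ _ => rfl, map_smul' := fun _ _ => rfl }
  obtain ⟨π, hπ⟩ := i.exists_leftInverse_of_injective (LinearMap.ker_eq_bot.2 Subtype.val_injective)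
  exact ⟨π, fun j => LinearMap.congr_fun hπ j⟩

/-- A chosen retraction. -/
def retr : (C' : Type u) →ₗ[k] J := (exists_retraction p).choose

/-- Coefficients in the kernel, read in `B₀ ⊗ J`. -/
def Lmap : MvPolynomial ι C' →ₗ[k] B₀ ⊗[k] J :=
  (TensorProduct.map (IsScalarTower.toAlgHom k (MvPolynomial ι k) B₀).toLinearMap (retr p)) ∘ₗ
    (TensorProduct.comm k (C' : Type u) (MvPolynomial ι k)).toLinearMap ∘ₗ
      ((MvPolynomial.algebraTensorAlgEquiv (σ := ι) k (C' : Type u)).symm.toAlgHom.restrictScalars k).toLinearMap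

theorem Lmap_monomial (m : ι →₀ ℕ) (c : (C' : Type u)) :
    Lmap (B₀ := B₀) p (MvPolynomial.monomial m c) =
      algebraMap (MvPolynomial ι k) B₀ (MvPolynomial.monomial m 1) ⊗ₜ retr p c := by
  simp [Lmap]

theorem Lmap_monomial_mem (m : ι →₀ ℕ) (j : J) :
    Lmap (B₀ := B₀) p (MvPolynomial.monomial m (j : C')) =
      algebraMap (MvPolynomial ι k) B₀ (MvPolynomial.monomial m 1) ⊗ₜ j := by
  rw [Lmap_monomial, retr, (exists_retraction p).choose_spec]

theorem coeff_mem_of_cmap_eq_zero {z : MvPolynomial ι C'} (hz : cmap p z = 0) (m : ι →₀ ℕ) :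
    p (MvPolynomial.coeff m z) = 0 := by
  have h := congrArg (fun w => MvPolynomial.coeff m w) hz
  simpa [cmap, MvPolynomial.coeff_map] using h

variable {p} (hp : IsSemismallExt p)

include hp in
/-- The reduced polynomials act through `B₀`. -/
theorem Lmap_mul (q : MvPolynomial ι C') {z : MvPolynomial ι C'} (hz : cmap p z = 0) :
    Lmap (B₀ := B₀) p (q * z) = algebraMap (MvPolynomial ι k) B₀ (red C' q) • Lmap p z := by
  induction q using MvPolynomial.induction_on' with
  | add q q' hq hq' => rw [add_mul, map_add, hq, hq', map_add, map_add, add_smul]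
  | monomial n c =>
    rw [MvPolynomial.as_sum z, Finset.mul_sum, map_sum, map_sum, Finset.smul_sum]
    refine Finset.sum_congr rfl fun m _ => ?_
    let j : J := ⟨MvPolynomial.coeff m z, RingHom.mem_ker.2 (coeff_mem_of_cmap_eq_zero p hz m)⟩
    have hj : c * MvPolynomial.coeff m z = ((C'.res c • j : J) : (C' : Type u)) :=
      ArtFunLib.smul_eq_res_smul hp c (coeff_mem_of_cmap_eq_zero p hz m)
    rw [MvPolynomial.monomial_mul, hj, Lmap_monomial_mem, show MvPolynomial.coeff m z = (j : C') from rfl,
      Lmap_monomial_mem, red, MvPolynomial.map_monomial, TensorProduct.smul_tmul', smul_eq_mul,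
      TensorProduct.tmul_smul, TensorProduct.smul_tmul', Algebra.smul_def,
      IsScalarTower.algebraMap_apply k (MvPolynomial ι k) B₀, ← map_mul, ← map_mul,
      MvPolynomial.algebraMap_eq, MvPolynomial.monomial_mul, MvPolynomial.C_mul_monomial]
    simp

include hp in
/-- Products with the kernel vanish on coefficients in the maximal ideal. -/
theorem Lmap_smul_eq_zero {c : (C' : Type u)} (hc : C'.res c = 0) {z : MvPolynomial ι C'} (hz : cmap p z = 0) :
    Lmap (B₀ := B₀) p (c • z) = 0 := by
  rw [MvPolynomial.smul_eq_C_mul, Lmap_mul hp _ hz, red_C, hc, map_zero, map_zero, zero_smul]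

variable (p) in
theorem exists_Lmap_eq (hs : Function.Surjective (algebraMap (MvPolynomial ι k) B₀)) (x : B₀ ⊗[k] J) :
    ∃ z : MvPolynomial ι C', cmap p z = 0 ∧ Lmap p z = x := by
  induction x using TensorProduct.induction_on with
  | zero => exact ⟨0, map_zero _, map_zero _⟩
  | add x y hx hy =>
    obtain ⟨a, ha, rfl⟩ := hx
    obtain ⟨b, hb, rfl⟩ := hy
    exact ⟨a + b, by rw [map_add, ha, hb, add_zero], map_add _ _ _⟩
  | tmul b j =>
    obtain ⟨w, rfl⟩ := hs b
    induction w using MvPolynomial.induction_on' with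
    | monomial m c =>
      refine ⟨MvPolynomial.monomial m ((c • j : J) : C'), ?_, ?_⟩
      · rw [cmap, MvPolynomial.map_monomial,
          show (p.toAlgHom : (C' : Type u) →+* C) ((c • j : J) : C') = 0 from RingHom.mem_ker.1 (c • j).2, map_zero]
      · rw [Lmap_monomial_mem, TensorProduct.tmul_smul, TensorProduct.smul_tmul', Algebra.smul_def,
          IsScalarTower.algebraMap_apply k (MvPolynomial ι k) B₀, ← map_mul, MvPolynomial.algebraMap_eq,
          MvPolynomial.C_mul_monomial, mul_one]
    | add w w' hw hw' =>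
      obtain ⟨a, ha, ha'⟩ := hw
      obtain ⟨b, hb, hb'⟩ := hw'
      exact ⟨a + b, by rw [map_add, ha, hb, add_zero], by rw [map_add, ha', hb', map_add, TensorProduct.add_tmul]⟩

variable {f : σ → MvPolynomial ι k} (hf : ∀ s, algebraMap (MvPolynomial ι k) B₀ (f s) = 0) (𝔓 : Pack f C)
  (F' : σ → MvPolynomial ι C') (hF' : ∀ s, cmap p (F' s) = 𝔓.F s)

include hF' in
theorem red_F' (s : σ) : red C' (F' s) = f s := by rw [← red_cmap p, hF', 𝔓.red_F]

include hF' in
theorem cmap_lc (v : σ →₀ MvPolynomial ι C') :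
    cmap p (Finsupp.linearCombination _ F' v) = Finsupp.linearCombination _ 𝔓.F (vmap (cmap p) v) := by
  rw [map_lc]; exact congrArg (fun G => Finsupp.linearCombination _ G (vmap (cmap p) v)) (funext hF')

theorem vmap_red_cmap (v : σ →₀ MvPolynomial ι C') : vmap (red C) (vmap (cmap p) v) = vmap (red C') v :=
  Finsupp.ext fun s => red_cmap p _

include hp hf hF' in
theorem Lmap_lc_eq_zero (v : σ →₀ MvPolynomial ι C') (hv : vmap (red C') v = 0)
    (hv' : Finsupp.linearCombination _ 𝔓.F (vmap (cmap p) v) = 0) :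
    Lmap (B₀ := B₀) p (Finsupp.linearCombination _ F' v) = 0 := by
  have hker : ∀ x : σ →₀ MvPolynomial ι C', vmap (cmap p) x = 0 → Lmap (B₀ := B₀) p (Finsupp.linearCombination _ F' x) = 0 := by
    intro x hx
    rw [Finsupp.linearCombination_apply, Finsupp.sum, map_sum]
    refine Finset.sum_eq_zero fun s _ => ?_
    rw [smul_eq_mul, mul_comm, Lmap_mul hp _ (DFunLike.congr_fun hx s), red_F' 𝔓 F' hF', hf, zero_smul]
  have key := 𝔓.rel_induction
    (motive := fun w => Finsupp.linearCombination _ 𝔓.F w = 0 ∧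
      ∀ x, vmap (cmap p) x = w → Lmap (B₀ := B₀) p (Finsupp.linearCombination _ F' x) = 0)
    ⟨map_zero _, hker⟩
    (fun a b ha hb => ⟨by rw [map_add, ha.1, hb.1, add_zero], fun x hx => by
      obtain ⟨a', ha'⟩ := vmap_surjective (cmap p) (cmap_surjective p hp.1) a
      have := hb.2 (x - a') (by rw [map_sub, hx, ha', add_sub_cancel_left])
      rw [map_sub, map_sub, ha.2 a' ha', sub_zero] at this
      exact this⟩)
    (fun c hc w hw => ⟨by rw [smul_vec, map_smul, hw, smul_zero], fun x hx => by
      obtain ⟨w', hw'⟩ := vmap_surjective (cmap p) (cmap_surjective p hp.1) w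
      obtain ⟨c', rfl⟩ := hp.1 c
      have hc' : C'.res c' = 0 := (Art.res_app p c').symm.trans hc
      have hd : vmap (cmap p) (c' • w') = p c' • w := by
        rw [smul_vec, vmap_smul, hw', cmap, MvPolynomial.map_C, smul_vec (C := C)]
        rfl
      have := hker (x - c' • w') (by rw [map_sub, hx, hd, sub_self])
      rw [map_sub, map_sub, sub_eq_zero] at this
      rw [this, smul_vec, map_smul, smul_eq_mul, ← MvPolynomial.smul_eq_C_mul]
      exact Lmap_smul_eq_zero hp hc' (by rw [cmap_lc 𝔓 F' hF', hw', hw])⟩)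
    (by rw [vmap_red_cmap, hv]) hv'
  exact key.2 v rfl

/-- The relations of `f`. -/
abbrev relK (f : σ → MvPolynomial ι k) : Submodule (MvPolynomial ι k) (σ →₀ MvPolynomial ι k) :=
  LinearMap.ker (Finsupp.linearCombination (MvPolynomial ι k) f)

include hp in
theorem exists_lift_rel (a : relK f) :
    ∃ v : σ →₀ MvPolynomial ι C', vmap (red C') v = (a : σ →₀ MvPolynomial ι k) ∧
      Finsupp.linearCombination _ 𝔓.F (vmap (cmap p) v) = 0 := by
  obtain ⟨w, hw, hw'⟩ := 𝔓.exists_rel (LinearMap.mem_ker.1 a.2)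
  obtain ⟨v, rfl⟩ := vmap_surjective (cmap p) (cmap_surjective p hp.1) w
  exact ⟨v, (vmap_red_cmap v).symm.trans hw, hw'⟩

include hF' hp hf in
theorem Lmap_lc_congr {v w : σ →₀ MvPolynomial ι C'} (hr : vmap (red C') v = vmap (red C') w)
    (hv : Finsupp.linearCombination _ 𝔓.F (vmap (cmap p) v) = 0)
    (hw : Finsupp.linearCombination _ 𝔓.F (vmap (cmap p) w) = 0) :
    Lmap (B₀ := B₀) p (Finsupp.linearCombination _ F' v) = Lmap p (Finsupp.linearCombination _ F' w) := by
  rw [← sub_eq_zero, ← map_sub, ← map_sub]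
  exact Lmap_lc_eq_zero hp hf 𝔓 F' hF' _ (by rw [map_sub, hr, sub_self])
    (by rw [map_sub, map_sub, hv, hw, sub_self])

/-- The obstruction on relations. -/
def theta : relK f →ₗ[MvPolynomial ι k] B₀ ⊗[k] J where
  toFun a := Lmap p (Finsupp.linearCombination _ F' (exists_lift_rel hp 𝔓 a).choose)
  map_add' a b := by
    rw [← map_add, ← map_add]
    obtain ⟨ha, ha'⟩ := (exists_lift_rel hp 𝔓 a).choose_spec
    obtain ⟨hb, hb'⟩ := (exists_lift_rel hp 𝔓 b).choose_spec
    obtain ⟨hab, hab'⟩ := (exists_lift_rel hp 𝔓 (a + b)).choose_spec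
    refine Lmap_lc_congr hp hf 𝔓 F' hF' ?_ hab' ?_
    · rw [hab, map_add, ha, hb]; rfl
    · rw [map_add, map_add, ha', hb', add_zero]
  map_smul' q a := by
    obtain ⟨ha, ha'⟩ := (exists_lift_rel hp 𝔓 a).choose_spec
    obtain ⟨hb, hb'⟩ := (exists_lift_rel hp 𝔓 (q • a)).choose_spec
    obtain ⟨q', rfl⟩ := red_surjective C' q
    rw [RingHom.id_apply]
    refine Eq.trans ?_ (algebraMap_smul B₀ (red C' q')
      (Lmap (B₀ := B₀) p (Finsupp.linearCombination _ F' (exists_lift_rel hp 𝔓 a).choose)))
    rw [← Lmap_mul hp q' (by rw [cmap_lc 𝔓 F' hF', ha']),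
      ← smul_eq_mul, ← map_smul]
    refine Lmap_lc_congr hp hf 𝔓 F' hF' ?_ hb' ?_
    · rw [hb, vmap_smul, ha]; rfl
    · rw [vmap_smul, map_smul, ha', smul_zero]

theorem theta_eq (a : relK f) {v : σ →₀ MvPolynomial ι C'} (hv : vmap (red C') v = (a : σ →₀ MvPolynomial ι k))
    (hv' : Finsupp.linearCombination _ 𝔓.F (vmap (cmap p) v) = 0) :
    theta (B₀ := B₀) hp hf 𝔓 F' hF' a = Lmap p (Finsupp.linearCombination _ F' v) :=
  Lmap_lc_congr hp hf 𝔓 F' hF' ((exists_lift_rel hp 𝔓 a).choose_spec.1.trans hv.symm)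
    (exists_lift_rel hp 𝔓 a).choose_spec.2 hv'

/-- It vanishes on the trivial relations. -/
theorem theta_triv (x : relK f) (a b : σ →₀ MvPolynomial ι k)
    (hx : (x : σ →₀ MvPolynomial ι k) =
      Finsupp.linearCombination _ f a • b - Finsupp.linearCombination _ f b • a) :
    theta (B₀ := B₀) hp hf 𝔓 F' hF' x = 0 := by
  obtain ⟨a', rfl⟩ := vmap_surjective (red C') (red_surjective C') a
  obtain ⟨b', rfl⟩ := vmap_surjective (red C') (red_surjective C') b
  let v := Finsupp.linearCombination _ F' a' • b' - Finsupp.linearCombination _ F' b' • a'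
  have h0 : Finsupp.linearCombination _ F' v = 0 := by
    simp only [v, map_sub, map_smul, smul_eq_mul]; ring
  rw [theta_eq hp hf 𝔓 F' hF' x (v := v), h0, map_zero]
  · rw [hx, map_sub, vmap_smul, vmap_smul, map_lc, map_lc, show (red C') ∘ F' = f from funext (red_F' 𝔓 F' hF')]
  · rw [← cmap_lc 𝔓 F' hF', h0, map_zero]

/-- Changing the lift of the sequence. -/
theorem theta_sub (ε : σ → MvPolynomial ι C') (hε : ∀ s, cmap p (ε s) = 0)
    (hF'' : ∀ s, cmap p ((F' - ε) s) = 𝔓.F s) (a : relK f) :
    theta (B₀ := B₀) hp hf 𝔓 (F' - ε) hF'' a = theta hp hf 𝔓 F' hF' a -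
      Finsupp.linearCombination (MvPolynomial ι k) (fun s => Lmap (B₀ := B₀) p (ε s)) a := by
  obtain ⟨v, hv, hv'⟩ := exists_lift_rel hp 𝔓 a
  rw [theta_eq hp hf 𝔓 _ hF'' a hv hv', theta_eq hp hf 𝔓 F' hF' a hv hv', ← hv]
  generalize v = w
  induction w using Finsupp.induction_linear with
  | zero => simp
  | add v w ihv ihw => rw [map_add, map_add, ihv, ihw, map_add, map_add, map_add (vmap _), map_add]; abel
  | single s q =>
    simp only [Finsupp.mapRange.addMonoidHom_apply, Finsupp.mapRange_single, Finsupp.linearCombination_single,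
      smul_eq_mul, Pi.sub_apply, mul_sub, map_sub]
    congr 1
    rw [Lmap_mul hp q (hε s)]
    exact algebraMap_smul B₀ _ _

end Class

end Groth.Agent.AffObs29
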