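import Groth.Agent.AffObs29.Theory
import Groth.Agent.ArtFunLib.ObsBounds
import Groth.Agent.ArtFunLib.Tangent
import Groth.Agent.ArtFunLib.PowerSeriesVersal
import Groth.Agent.CAlgH.CompleteLocal

/-!
# Linear identifications of tangent spaces
-/

set_option autoImplicit false
set_option backward.isDefEq.respectTransparency.types false
set_option backward.isDefEq.respectTransparency false
set_option linter.style.haveILetI false
universe u v

open AlgebraicGeometry CategoryTheory TensorProduct ArtFun ArtFun.Art CotT IsLocalRing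
open Groth.Agent.Et18

noncomputable section

namespace Groth.Agent.AffObs29

variable {k : Type u} [Field k]

theorem nonempty_linearEquiv_of_ker {G X Y : Type*} [AddCommGroup G] [Module k G] [AddCommGroup X] [Module k X]
    [AddCommGroup Y] [Module k Y] (s : G →ₗ[k] X) (t : G →ₗ[k] Y) (hs : Function.Surjective s)
    (ht : Function.Surjective t) (h : ∀ a, s a = 0 ↔ t a = 0) : Nonempty (X ≃ₗ[k] Y) := by
  have hk : LinearMap.ker s = LinearMap.ker t := SetLike.ext fun a => by simpa using h a
  exact ⟨(LinearMap.quotKerEquivOfSurjective s hs).symm ≪≫ₗ (Submodule.quotEquivOfEq _ _ hk) ≪≫ₗ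
    LinearMap.quotKerEquivOfSurjective t ht⟩

section T1

variable {B : Type u} [CommRing B] [Algebra k B] {ι σ : Type u}

/-- `T¹` is the tangent space, linearly. -/
theorem nonempty_linearEquiv_T1 (Q : Algebra.Presentation k B ι σ)
    [TangentStr (defFunctor (Λ := k) (Spec (CommRingCat.of B)) (AffDef.str₀ k B))] :
    Nonempty (TangentSpace (defFunctor (Λ := k) (Spec (CommRingCat.of B)) (AffDef.str₀ k B)) ≃ₗ[k] T1 Q B) := by
  letI : Algebra (MvPolynomial ι k) B := inferInstanceAs (Algebra Q.toExtension.Ring B)
  haveI : IsScalarTower k (MvPolynomial ι k) B := inferInstanceAs (IsScalarTower k Q.toExtension.Ring B)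
  have hsurj : Function.Surjective (algebraMap (MvPolynomial ι k) B) := Q.toExtension.algebraMap_surjective
  let ρ := AlgebraTensorModule.rid k (MvPolynomial ι k) B
  let hom : (Q.toExtension.Cotangent →ₗ[B] B) →
      (RingHom.ker (algebraMap (MvPolynomial ι k) B) →ₗ[MvPolynomial ι k] B ⊗[k] k) := fun g =>
    { toFun := fun f => ρ.symm (g (Algebra.Extension.Cotangent.mk (P := Q.toExtension) f))
      map_add' := fun f f' => by
        rw [← map_add, ← map_add]
        exact congrArg (fun z => ρ.symm (g z)) (map_add (Algebra.Extension.Cotangent.mk (P := Q.toExtension)) f f')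
      map_smul' := fun p f => by
        refine (congrArg (fun z => ρ.symm (g z))
          (map_smul (Algebra.Extension.Cotangent.mk (P := Q.toExtension)) (p : Q.toExtension.Ring) f)).trans ?_
        refine (congrArg (fun z => ρ.symm (g z)) (algebraMap_smul B (p : Q.toExtension.Ring) _).symm).trans ?_
        rw [map_smul]
        refine (congrArg ρ.symm (algebraMap_smul B (p : MvPolynomial ι k) _)).trans ?_
        exact ρ.symm.map_smul p _ }
  let homL : (Q.toExtension.Cotangent →ₗ[B] B) →ₗ[k]
      (RingHom.ker (algebraMap (MvPolynomial ι k) B) →ₗ[MvPolynomial ι k] DefT1.Val (k := k) B k) :=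
    { toFun := hom
      map_add' := fun g g' => LinearMap.ext fun f => map_add ρ.symm _ _
      map_smul' := fun c g => LinearMap.ext fun f =>
        LinearMap.map_smul_of_tower ρ.symm.toLinearMap c (g (Algebra.Extension.Cotangent.mk (P := Q.toExtension) f)) }
  let γ : (Q.toExtension.Cotangent →ₗ[B] B) →ₗ[k]
      TangentSpace (defFunctor (Λ := k) (Spec (CommRingCat.of B)) (AffDef.str₀ k B)) :=
    (DefT1.toTangent (Λ := k) hsurj).comp homL
  refine nonempty_linearEquiv_of_ker γ ((homToT1 Q B).restrictScalars k) (fun ξ => ?_) (fun t => ?_) fun g => ?_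
  · obtain ⟨h, rfl⟩ := DefT1.exists_cls₁ (Λ := k) hsurj ξ
    let h' : Q.toExtension.ker →ₗ[Q.toExtension.Ring] B :=
      { toFun := fun f => ρ (h f)
        map_add' := fun f f' =>
          (congrArg ρ (h.map_add (f : RingHom.ker (algebraMap (MvPolynomial ι k) B)) f')).trans (map_add ρ _ _)
        map_smul' := fun p f =>
          (congrArg ρ (h.map_smul (p : MvPolynomial ι k) f)).trans (ρ.map_smul p _) }
    have hker : LinearMap.ker (Algebra.Extension.Cotangent.mk (P := Q.toExtension)) ≤ LinearMap.ker h' := by
      intro x hx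
      rw [LinearMap.mem_ker, Algebra.Extension.Cotangent.mk_eq_zero_iff, pow_two] at hx
      suffices ∀ z (hz : z ∈ Q.toExtension.ker * Q.toExtension.ker), h' ⟨z, Ideal.mul_le_left hz⟩ = 0 from
        LinearMap.mem_ker.2 (this x.1 hx)
      intro z hz
      induction hz using Submodule.mul_induction_on' with
      | mem_mul_mem a ha b hb =>
        have e : (⟨a * b, Ideal.mul_mem_left _ a hb⟩ : Q.toExtension.ker) = a • ⟨b, hb⟩ := rfl
        rw [e, map_smul, ← algebraMap_smul B a, RingHom.mem_ker.1 ha, zero_smul]
      | add x hx y hy ihx ihy =>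
        have e : (⟨x + y, Ideal.add_mem _ (Ideal.mul_le_left hx) (Ideal.mul_le_left hy)⟩ : Q.toExtension.ker) =
          ⟨x, Ideal.mul_le_left hx⟩ + ⟨y, Ideal.mul_le_left hy⟩ := rfl
        rw [e, map_add, ihx, ihy, add_zero]
    have hmk := Algebra.Extension.Cotangent.mk_surjective (P := Q.toExtension)
    let g₀ : Q.toExtension.Cotangent →ₗ[Q.toExtension.Ring] B :=
      (Submodule.liftQ _ h' hker).comp
        (LinearMap.quotKerEquivOfSurjective _ hmk).symm.toLinearMap
    refine ⟨g₀.extendScalarsOfSurjective Q.toExtension.algebraMap_surjective, ?_⟩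
    show DefT1.cls₁ hsurj _ = _
    congr 1
    refine LinearMap.ext fun f => ?_
    show ρ.symm (Submodule.liftQ _ h' hker ((LinearMap.quotKerEquivOfSurjective _ hmk).symm _)) = _
    rw [show (LinearMap.quotKerEquivOfSurjective (Algebra.Extension.Cotangent.mk (P := Q.toExtension)) hmk).symm
      (Algebra.Extension.Cotangent.mk f) = Submodule.Quotient.mk f from (LinearEquiv.symm_apply_eq _).2 rfl,
      Submodule.liftQ_apply]
    exact ρ.symm_apply_apply _
  · obtain ⟨c, rfl⟩ := Submodule.Quotient.mk_surjective _ t
    obtain ⟨g, hg⟩ := CotTLib.exists_comp_toCot (φ := (c : L1 Q →ₗ[B] B)) c.2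
    exact ⟨g, congrArg Submodule.Quotient.mk (Subtype.ext hg)⟩
  · have h1 : homToT1 Q B g = 0 ↔ ∃ ψ : L0 Q →ₗ[B] B, ψ ∘ₗ Q.toExtension.cotangentComplex = g := by
      constructor
      · intro h
        obtain ⟨ψ, hψ⟩ := (Submodule.Quotient.mk_eq_zero _).1 h
        exact ⟨ψ, CotTLib.comp_toCot_injective (hψ : _)⟩
      · rintro ⟨ψ, hψ⟩
        refine (Submodule.Quotient.mk_eq_zero _).2 ⟨ψ, ?_⟩
        show ψ ∘ₗ Q.toExtension.cotangentComplex ∘ₗ toCot Q = g ∘ₗ toCot Q
        rw [← LinearMap.comp_assoc, hψ]
    refine Iff.trans ?_ h1.symm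
    constructor
    · intro he
      have he' : DefT1.cls₁ (Λ := k) hsurj 0 = DefT1.cls₁ hsurj (hom g) :=
        (map_zero (DefT1.toTangent (Λ := k) hsurj)).trans he.symm
      obtain ⟨D, hD⟩ := DefT1.exists_derivation_of_cls_eq hsurj (dual k k) (RingEquiv.refl (DualNumber k))
        (fun _ => rfl) _ _ he'
      let D' : Derivation k Q.toExtension.Ring B := ρ.toLinearMap.compDer D
      refine ⟨D'.liftKaehlerDifferential.liftBaseChange B, LinearMap.ext fun z => ?_⟩
      obtain ⟨f, rfl⟩ := Algebra.Extension.Cotangent.mk_surjective (P := Q.toExtension) z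
      rw [LinearMap.comp_apply, Algebra.Extension.cotangentComplex_mk, LinearMap.liftBaseChange_tmul, one_smul,
        Derivation.liftKaehlerDifferential_comp_D]
      have := congrArg ρ (hD f)
      rw [LinearMap.zero_apply, zero_add] at this
      exact (this.symm.trans (ρ.apply_symm_apply _))
    · rintro ⟨ψ, hψ⟩
      let D' : Derivation k Q.toExtension.Ring B :=
        (((ψ.restrictScalars Q.toExtension.Ring).comp (TensorProduct.mk Q.toExtension.Ring B _ 1))).compDer
          (KaehlerDifferential.D k Q.toExtension.Ring)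
      refine DefT1.toTangent_derivation (Λ := k) hsurj (ρ.symm.toLinearMap.compDer D') (hom g) fun f => ?_
      show ρ.symm (g _) = ρ.symm (D' (f : MvPolynomial ι k))
      congr 1
      have := LinearMap.congr_fun hψ (Algebra.Extension.Cotangent.mk (P := Q.toExtension) f)
      rw [LinearMap.comp_apply, Algebra.Extension.cotangentComplex_mk] at this
      exact this.symm

end T1

section Hull

variable {F : Art k k ⥤ Type v} [TangentStr F] (H : Hull F)

/-- The tangent space has the embedding dimension of the hull. -/
theorem finrank_tangent :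
    Module.finrank k (TangentSpace F) =
      Module.finrank (ResidueField H.ring.carrier) (CotangentSpace H.ring.carrier) := by
  classical
  let R := H.ring.carrier
  let res := H.ring.res
  have hmem : ∀ x : R, x ∈ maximalIdeal R ↔ res x = 0 := fun x => CRing.mem_maximalIdeal_iff H.ring x
  obtain ⟨hξi, hξs⟩ := H.miniversal.2
  choose ψ hψ using hξs
  let d : HomSet R res (Art.dual k k) → R →ₗ[k] k := fun u =>
    { toFun := fun a => TrivSqZeroExt.snd (u.1 a)
      map_add' := fun a b => by rw [map_add]; rfl
      map_smul' := fun l a => by rw [map_smul]; rfl }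
  have hd : ∀ u a b, d u (a * b) = res a * d u b + res b * d u a := fun u a b => by
    change TrivSqZeroExt.snd (u.1 (a * b)) = _
    rw [map_mul, ← (congrArg (fun g => g a) u.2), ← (congrArg (fun g => g b) u.2)]
    exact (TrivSqZeroExt.snd_mul (u.1 a) (u.1 b)).trans (by rw [op_smul_eq_smul]; rfl)
  have hadd : ∀ (θ θ' : TangentSpace F) a, d (ψ (θ + θ')) a = d (ψ θ) a + d (ψ θ') a := fun θ θ' a => by
    obtain ⟨χ, h₁, h₂⟩ := ArtFunLib.HomSet.exists_lift Art.isFibreProd_dual2 (ψ θ) (ψ θ')
      (ArtFunLib.HomSet.base_eq _ _)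
    have : ψ (θ + θ') = HomSet.map Art.plus χ := hξi (by
      rw [hψ, H.family.natural]
      refine Eq.trans ?_ (TangentStr.add_eq (F := F) (H.family.app _ χ))
      rw [← H.family.natural, ← H.family.natural, h₁, h₂, hψ, hψ])
    rw [this, ← h₁, ← h₂]
    rfl
  have hsmul : ∀ (c : k) (θ : TangentSpace F) a, d (ψ (c • θ)) a = c * d (ψ θ) a := fun c θ a => by
    have : ψ (c • θ) = HomSet.map (Art.scale c) (ψ θ) := hξi (by
      rw [hψ, H.family.natural, hψ]
      exact TangentStr.smul_eq (F := F) c θ)
    rw [this]
    rfl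
  let incl : maximalIdeal R →ₗ[k] R := (Submodule.subtype (maximalIdeal R)).restrictScalars k
  have hker : ∀ θ, LinearMap.ker ((maximalIdeal R).toCotangent.restrictScalars k) ≤
      LinearMap.ker ((d (ψ θ)).comp incl) := fun θ x hx => by
    have hx2 : (x : R) ∈ maximalIdeal R ^ 2 := (Ideal.toCotangent_eq_zero _ x).1 hx
    show d (ψ θ) (x : R) = 0
    rw [pow_two] at hx2
    refine Submodule.mul_induction_on hx2 (fun a ha b hb => ?_) fun a b ha hb => by rw [map_add, ha, hb, add_zero]
    rw [hd, (hmem a).1 ha, (hmem b).1 hb, zero_mul, zero_mul, add_zero]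
  let cot : maximalIdeal R →ₗ[k] CotangentSpace R := (maximalIdeal R).toCotangent.restrictScalars k
  have hcot : Function.Surjective cot := Ideal.toCotangent_surjective _
  let Φ0 : TangentSpace F → Module.Dual k (CotangentSpace R) := fun θ =>
    (Submodule.liftQ _ ((d (ψ θ)).comp incl) (hker θ)).comp
      (LinearMap.quotKerEquivOfSurjective cot hcot).symm.toLinearMap
  have hΦ0 : ∀ θ (x : maximalIdeal R), Φ0 θ (cot x) = d (ψ θ) (x : R) := fun θ x => by
    show Submodule.liftQ _ ((d (ψ θ)).comp incl) (hker θ)
      ((LinearMap.quotKerEquivOfSurjective cot hcot).symm (cot x)) = _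
    rw [show (LinearMap.quotKerEquivOfSurjective cot hcot).symm (cot x) = Submodule.Quotient.mk x from
      (LinearEquiv.symm_apply_eq _).2 rfl, Submodule.liftQ_apply]
    rfl
  let Φ : TangentSpace F →ₗ[k] Module.Dual k (CotangentSpace R) :=
    { toFun := Φ0
      map_add' := fun θ θ' => LinearMap.ext fun z => by
        obtain ⟨x, rfl⟩ := hcot z
        rw [LinearMap.add_apply, hΦ0, hΦ0, hΦ0]
        exact hadd θ θ' x
      map_smul' := fun c θ => LinearMap.ext fun z => by
        obtain ⟨x, rfl⟩ := hcot z
        rw [LinearMap.smul_apply, hΦ0, hΦ0]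
        exact hsmul c θ x }
  have hΦ : ∀ θ (x : maximalIdeal R), Φ θ (cot x) = d (ψ θ) (x : R) := hΦ0
  have hsplit : ∀ a : R, a - algebraMap k R (res a) ∈ maximalIdeal R := fun a => by
    rw [hmem, map_sub, AlgHom.commutes]
    exact sub_self _
  have hdalg : ∀ u c, d u (algebraMap k R c) = 0 := fun u c => by
    show TrivSqZeroExt.snd (u.1 (algebraMap k R c)) = 0
    rw [AlgHom.commutes]
    rfl
  have hbij : Function.Bijective Φ := by
    constructor
    · intro θ θ' e
      rw [← hψ θ, ← hψ θ']
      refine congrArg (H.family.app _) (Subtype.ext (AlgHom.ext fun a => TrivSqZeroExt.ext ?_ ?_))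
      · exact (congrArg (fun g => g a) (ψ θ).2).trans (congrArg (fun g => g a) (ψ θ').2).symm
      · show d (ψ θ) a = d (ψ θ') a
        have h1 := (hΦ θ ⟨_, hsplit a⟩).symm.trans ((LinearMap.congr_fun e _).trans (hΦ θ' ⟨_, hsplit a⟩))
        simp only [map_sub, hdalg, sub_zero] at h1
        exact h1
    · intro lam
      let δ : R → k := fun a => lam (cot ⟨_, hsplit a⟩)
      have hδadd : ∀ a b, δ (a + b) = δ a + δ b := fun a b => by
        show lam _ = lam _ + lam _
        rw [← map_add lam, ← map_add cot]
        congr 2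
        exact Subtype.ext (by simp [map_add]; ring)
      have hδsmul : ∀ (c : k) a, δ (c • a) = c * δ a := fun c a => by
        show lam _ = c • lam _
        rw [← map_smul lam, ← map_smul cot]
        congr 2
        exact Subtype.ext (show c • a - algebraMap k R (res (c • a)) = c • (a - algebraMap k R (res a)) by
          rw [map_smul, smul_eq_mul, map_mul, Algebra.smul_def, Algebra.smul_def]; ring)
      have hδmul : ∀ a b, δ (a * b) = res a * δ b + res b * δ a := fun a b => by
        show lam _ = res a • lam _ + res b • lam _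
        rw [← map_smul lam, ← map_smul lam, ← map_add lam, ← map_smul cot, ← map_smul cot, ← map_add cot]
        refine congrArg lam ?_
        show (maximalIdeal R).toCotangent _ = (maximalIdeal R).toCotangent _
        rw [Ideal.toCotangent_eq]
        have : a * b - algebraMap k R (res (a * b)) -
            (res a • (b - algebraMap k R (res b)) + res b • (a - algebraMap k R (res a))) =
            (a - algebraMap k R (res a)) * (b - algebraMap k R (res b)) := by
          simp only [map_mul, Algebra.smul_def]; ring
        show a * b - algebraMap k R (res (a * b)) -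
            (res a • (b - algebraMap k R (res b)) + res b • (a - algebraMap k R (res a))) ∈ _
        rw [this, pow_two]
        exact Ideal.mul_mem_mul (hsplit a) (hsplit b)
      have hδ1 : δ 1 = 0 := by
        have := hδmul 1 1
        rw [one_mul, map_one, one_mul] at this
        simpa using this
      let val : R → TrivSqZeroExt k k := fun a => TrivSqZeroExt.inl (res a) + TrivSqZeroExt.inr (δ a)
      have hf : ∀ a, TrivSqZeroExt.fst (val a) = res a := fun a => by simp [val]
      have hs : ∀ a, TrivSqZeroExt.snd (val a) = δ a := fun a => by simp [val]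
      have hδ0 : δ 0 = 0 := by
        have h := hδsmul 0 0
        rwa [zero_smul, zero_mul] at h
      have hδalg : ∀ c, δ (algebraMap k R c) = 0 := fun c => by
        have h := hδsmul c 1
        rwa [hδ1, mul_zero, Algebra.smul_def, mul_one] at h
      let g : R →ₐ[k] (Art.dual k k : Type u) :=
        { toFun := val
          map_one' := TrivSqZeroExt.ext ((hf 1).trans ((map_one res).trans TrivSqZeroExt.fst_one.symm))
            ((hs 1).trans (hδ1.trans TrivSqZeroExt.snd_one.symm))
          map_mul' := fun a b => TrivSqZeroExt.ext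
            ((hf _).trans ((map_mul res a b).trans
              ((congrArg₂ (· * ·) (hf a).symm (hf b).symm).trans (TrivSqZeroExt.fst_mul _ _).symm)))
            (by
              refine Eq.trans ?_ (TrivSqZeroExt.snd_mul (val a) (val b)).symm
              rw [hs, hf, hf, hs, hs, op_smul_eq_smul, smul_eq_mul, smul_eq_mul, hδmul])
          map_zero' := TrivSqZeroExt.ext ((hf 0).trans ((map_zero res).trans TrivSqZeroExt.fst_zero.symm))
            ((hs 0).trans (hδ0.trans TrivSqZeroExt.snd_zero.symm))
          map_add' := fun a b => TrivSqZeroExt.ext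
            ((hf _).trans ((map_add res a b).trans
              ((congrArg₂ (· + ·) (hf a).symm (hf b).symm).trans (TrivSqZeroExt.fst_add _ _).symm)))
            ((hs _).trans ((hδadd a b).trans
              ((congrArg₂ (· + ·) (hs a).symm (hs b).symm).trans (TrivSqZeroExt.snd_add _ _).symm)))
          commutes' := fun c => TrivSqZeroExt.ext
            ((hf _).trans ((res.commutes c).trans rfl))
            ((hs _).trans ((hδalg c).trans rfl)) }
      let φ₀ : HomSet R res (Art.dual k k) := ⟨g, AlgHom.ext fun a => by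
        show TrivSqZeroExt.fst (TrivSqZeroExt.inl (res a) + TrivSqZeroExt.inr (δ a) : TrivSqZeroExt k k) = res a
        simp⟩
      refine ⟨H.family.app _ φ₀, LinearMap.ext fun z => ?_⟩
      obtain ⟨x, rfl⟩ := hcot z
      rw [hΦ, show ψ (H.family.app _ φ₀) = φ₀ from hξi (hψ _)]
      show TrivSqZeroExt.snd (TrivSqZeroExt.inl (res x) + TrivSqZeroExt.inr (δ x) : TrivSqZeroExt k k) = _
      simp only [TrivSqZeroExt.snd_add, TrivSqZeroExt.snd_inl, TrivSqZeroExt.snd_inr, zero_add, δ]
      congr 2
      refine Subtype.ext ?_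
      show (x : R) - algebraMap k R (res (x : R)) = x
      rw [(hmem _).1 x.2, map_zero, sub_zero]
  haveI : IsScalarTower k (ResidueField R) (CotangentSpace R) := IsScalarTower.of_algebraMap_smul fun c z => by
    rw [IsScalarTower.algebraMap_apply k R (ResidueField R), algebraMap_smul, algebraMap_smul]
  rw [(LinearEquiv.ofBijective Φ hbij).finrank_eq, Subspace.dual_finrank_eq,
    ← Module.finrank_mul_finrank k (ResidueField R) (CotangentSpace R)]
  have h1 : Module.finrank k (ResidueField R) = 1 := by
    refine finrank_eq_one (1 : ResidueField R) one_ne_zero fun w => ?_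
    obtain ⟨a, rfl⟩ := residue_surjective w
    refine ⟨res a, ?_⟩
    rw [Algebra.smul_def, mul_one, IsScalarTower.algebraMap_apply k R (ResidueField R)]
    exact (Ideal.Quotient.eq.2 (hsplit a)).symm
  rw [h1, one_mul]

omit [TangentStr F] in
/-- A smooth hull. -/
theorem isSmoothFunctor_iff (h0 : H0 F) :
    IsSmoothFunctor F ↔ IsSmoothFunctor (hR H.ring.carrier H.ring.res) := by
  constructor
  · intro hF B A μ hμ φ
    obtain ⟨y, hy⟩ := hF μ hμ (H.family.app A φ)
    obtain ⟨ψ, hψ, -⟩ := H.miniversal.1 μ hμ φ y hy
    exact ⟨ψ, hψ⟩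
  · intro hR B A μ hμ x
    obtain ⟨φ, rfl⟩ := ArtFunLib.versal_surjective H.miniversal.1
      (fun y => ⟨⟨H.ring.res, AlgHom.id_comp _⟩, @Subsingleton.elim _ h0.2 _ _⟩) A x
    obtain ⟨ψ, hψ⟩ := hR μ hμ φ
    exact ⟨H.family.app B ψ, (H.family.natural μ ψ).symm.trans (congrArg (H.family.app A) hψ)⟩

end Hull

end Groth.Agent.AffObs29
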