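import Groth.Agent.AffObs29.Basic
import Groth.Agent.Et18.AffDef
import Groth.Agent.FlatCrit.Inj
import Mathlib.RingTheory.LocalRing.Module
import Mathlib.LinearAlgebra.TensorProduct.Basis

/-!
# Lifts of deformations and the obstruction class
-/

set_option autoImplicit false
set_option backward.isDefEq.respectTransparency.types false
set_option backward.isDefEq.respectTransparency false
set_option linter.style.haveILetI false
universe u

open ArtFun ArtFun.Art CategoryTheory IsLocalRing
open Groth.Agent.Et18.AffDef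
open scoped TensorProduct

noncomputable section

namespace Groth.Agent.AffObs29

variable {k : Type u} [Field k] {B₀ : Type u} [CommRing B₀] [Algebra k B₀] {A : Art k k}

theorem mem_smul_top_of_π (D : Data B₀ A) {x : D.R} (hx : D.π x = 0) :
    x ∈ maximalIdeal (A : Type u) • (⊤ : Submodule (A : Type u) D.R) := by
  rw [Ideal.smul_top_eq_map]; exact D.ker_le hx

theorem π_smul (D : Data B₀ A) (a : (A : Type u)) (x : D.R) : D.π (a • x) = A.res a • D.π x := by
  rw [Algebra.smul_def, map_mul, D.comp_alg, Algebra.smul_def]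

theorem π_eq_zero_of_mem (D : Data B₀ A) {x : D.R}
    (hx : x ∈ maximalIdeal (A : Type u) • (⊤ : Submodule (A : Type u) D.R)) : D.π x = 0 := by
  rw [← RingHom.mem_ker, D.ker_eq]; rwa [Ideal.smul_top_eq_map] at hx

/-- Lifts of a basis of the closed fibre are independent. -/
theorem linearIndependent_lifts (D : Data B₀ A) {I : Type u} (b : Module.Basis I k B₀) (v : I → D.R)
    (hv : ∀ i, D.π (v i) = b i) : LinearIndependent (A : Type u) v := by
  refine Module.IsLocalRing.linearIndependent_of_flat v ?_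
  rw [linearIndependent_iff']
  intro s c hc i hi
  choose a ha using fun i => residue_surjective (c i)
  have h1 : TensorProduct.mk (A : Type u) (ResidueField (A : Type u)) D.R 1 (∑ i ∈ s, a i • v i) = 0 := by
    rw [← hc, map_sum]
    refine Finset.sum_congr rfl fun j _ => ?_
    rw [map_smul, ← ha j]
    rfl
  have h1' : ∑ i ∈ s, a i • v i ∈ maximalIdeal (A : Type u) • (⊤ : Submodule (A : Type u) D.R) := by
    rw [← LinearMap.ker_tensorProductMk, LinearMap.mem_ker]; exact h1
  have h2 := π_eq_zero_of_mem D h1'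
  simp only [map_sum, π_smul, hv] at h2
  have h3 := linearIndependent_iff'.1 b.linearIndependent s _ h2 i hi
  exact (ha i).symm.trans ((residue_eq_zero_iff _).2 ((mem_maximalIdeal_iff A _).2 h3))

/-- Elements lifting surjectively span. -/
theorem eq_top_of_π (D : Data B₀ A) (N : Submodule (A : Type u) D.R) (h : ∀ x : B₀, ∃ y ∈ N, D.π y = x) : N = ⊤ := by
  refine FlatCrit.submodule_eq_top_of_nilpotent (ArtFunLib.maximalIdeal_nilpotent A) N (eq_top_iff.2 fun x _ => ?_)
  obtain ⟨y, hy, hy'⟩ := h (D.π x)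
  exact Submodule.mem_sup.2 ⟨y, hy, x - y, mem_smul_top_of_π D (by rw [map_sub, hy', sub_self]),
    add_sub_cancel _ _⟩

variable {ι σ : Type u} [Algebra (MvPolynomial ι k) B₀] [IsScalarTower k (MvPolynomial ι k) B₀]

local notation "aM" => algebraMap (MvPolynomial ι k) B₀

theorem aM_smul (c : k) (z : MvPolynomial ι k) : aM (c • z) = c • aM z :=
  map_smul (IsScalarTower.toAlgHom k (MvPolynomial ι k) B₀) c z

theorem exists_aeval (D : Data B₀ A) : ∃ ψ : MvPolynomial ι (A : Type u) →ₐ[(A : Type u)] D.R,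
    ∀ z, D.π (ψ z) = aM (red A z) := by
  choose r hr using fun i => D.surj (aM (MvPolynomial.X i))
  refine ⟨MvPolynomial.aeval r, fun z => ?_⟩
  induction z using MvPolynomial.induction_on with
  | C a =>
    rw [red_C, MvPolynomial.aeval_C, D.comp_alg, IsScalarTower.algebraMap_apply k (MvPolynomial ι k) B₀,
      MvPolynomial.algebraMap_eq]
  | add x y hx hy => simp only [map_add, hx, hy]
  | mul_X x i hx => simp only [map_mul, hx, MvPolynomial.aeval_X, hr, red, MvPolynomial.map_X]

variable (hs : Function.Surjective (algebraMap (MvPolynomial ι k) B₀))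

include hs in
theorem aeval_surjective (D : Data B₀ A) (ψ : MvPolynomial ι (A : Type u) →ₐ[(A : Type u)] D.R)
    (hψ : ∀ z, D.π (ψ z) = aM (red A z)) : Function.Surjective ψ := by
  refine (LinearMap.range_eq_top (f := ψ.toLinearMap)).1 (eq_top_of_π D _ fun x => ?_)
  obtain ⟨z₀, rfl⟩ := hs x
  obtain ⟨z, rfl⟩ := red_surjective A z₀
  exact ⟨ψ z, ⟨z, rfl⟩, hψ z⟩

theorem mem_smul_top_of_red {z : MvPolynomial ι (A : Type u)} (hz : red A z = 0) :
    z ∈ maximalIdeal (A : Type u) • (⊤ : Submodule (A : Type u) (MvPolynomial ι (A : Type u))) := by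
  rw [MvPolynomial.as_sum z]
  refine Submodule.sum_mem _ fun m _ => ?_
  rw [show MvPolynomial.monomial m (MvPolynomial.coeff m z) =
    MvPolynomial.coeff m z • MvPolynomial.monomial m (1 : (A : Type u)) by
      rw [MvPolynomial.smul_monomial, smul_eq_mul, mul_one]]
  refine Submodule.smul_mem_smul ((mem_maximalIdeal_iff A _).2 ?_) Submodule.mem_top
  simpa [red, MvPolynomial.coeff_map] using congrArg (fun w => MvPolynomial.coeff m w) hz

theorem red_eq_zero_of_mem {z : MvPolynomial ι (A : Type u)}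
    (hz : z ∈ maximalIdeal (A : Type u) • (⊤ : Submodule (A : Type u) (MvPolynomial ι (A : Type u)))) :
    red A z = 0 := by
  refine Submodule.smul_induction_on hz (fun a ha y _ => ?_) fun x y hx hy => by rw [map_add, hx, hy, add_zero]
  rw [MvPolynomial.smul_eq_C_mul, map_mul, red_C, (mem_maximalIdeal_iff A a).1 ha, map_zero, zero_mul]

variable {f : σ → MvPolynomial ι k}
  (hspan : RingHom.ker (algebraMap (MvPolynomial ι k) B₀) = Ideal.span (Set.range f))

include hspan in
theorem f_eq_zero (s : σ) : aM (f s) = 0 :=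
  RingHom.mem_ker.1 (hspan.ge (Ideal.subset_span ⟨s, rfl⟩))

include hspan in
theorem exists_sub_red_eq_zero (F : σ → MvPolynomial ι (A : Type u)) (hF : ∀ s, red A (F s) = f s)
    {z : MvPolynomial ι (A : Type u)} (hz : aM (red A z) = 0) :
    ∃ y ∈ Ideal.span (Set.range F), red A (z - y) = 0 := by
  have h1 : red A z ∈ Ideal.span (Set.range f) := hspan.le (RingHom.mem_ker.2 hz)
  rw [show f = (red A) ∘ F from (funext hF).symm, Set.range_comp, ← Ideal.map_span,
    Ideal.mem_map_iff_of_surjective _ (red_surjective A)] at h1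
  obtain ⟨y, hy, hy'⟩ := h1
  exact ⟨y, hy, by rw [map_sub, hy', sub_self]⟩

include hs hspan in
/-- Every deformation has a pack. -/
theorem exists_pack (D : Data B₀ A) (ψ : MvPolynomial ι (A : Type u) →ₐ[(A : Type u)] D.R)
    (hψ : ∀ z, D.π (ψ z) = aM (red A z)) :
    ∃ 𝔓 : Pack f A, ∀ z, z ∈ Ideal.span (Set.range 𝔓.F) ↔ ψ z = 0 := by
  have hψs := aeval_surjective hs D ψ hψ
  have hnil := ArtFunLib.maximalIdeal_nilpotent A
  have : Module.Free (A : Type u) D.R := FlatCrit.free_of_flat_of_isNilpotent hnil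
  obtain ⟨sec, hsec⟩ := Module.projective_lifting_property ψ.toLinearMap LinearMap.id hψs
  let e : MvPolynomial ι (A : Type u) →ₗ[(A : Type u)] MvPolynomial ι (A : Type u) :=
    LinearMap.id - sec ∘ₗ ψ.toLinearMap
  have he : ∀ z, ψ (e z) = 0 := fun z => by
    show ψ (z - sec (ψ z)) = 0
    rw [map_sub, show ψ (sec (ψ z)) = ψ z from LinearMap.congr_fun hsec (ψ z), sub_self]
  have he' : ∀ z, ψ z = 0 → e z = z := fun z hz => by
    show z - sec (ψ z) = z
    rw [hz, map_zero, sub_zero]
  choose F hFψ hFred using fun s => show ∃ z, ψ z = 0 ∧ red A z = f s by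
    obtain ⟨z₀, hz₀⟩ := red_surjective A (f s)
    have h1 := mem_smul_top_of_π D (x := ψ z₀) (by rw [hψ, hz₀, f_eq_zero hspan])
    rw [← (LinearMap.range_eq_top.2 hψs : LinearMap.range ψ.toLinearMap = ⊤), LinearMap.range_eq_map,
      ← Submodule.map_smul''] at h1
    obtain ⟨w, hw, hw'⟩ := h1
    exact ⟨z₀ - w, by rw [map_sub, show ψ w = ψ z₀ from hw', sub_self],
      by rw [map_sub, red_eq_zero_of_mem hw, sub_zero, hz₀]⟩
  let N : Submodule (A : Type u) (MvPolynomial ι (A : Type u)) :=
    (Ideal.span (Set.range F)).restrictScalars (A : Type u)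
  have hle : Ideal.span (Set.range F) ≤ RingHom.ker ψ := Ideal.span_le.2 (Set.range_subset_iff.2 hFψ)
  have hKN : ∀ j : ℕ, LinearMap.ker ψ.toLinearMap ≤ N ⊔ maximalIdeal (A : Type u) ^ j • LinearMap.ker ψ.toLinearMap := by
    intro j
    induction j with
    | zero => rw [pow_zero, Ideal.one_eq_top, Submodule.top_smul]; exact le_sup_right
    | succ j ih =>
      refine ih.trans (sup_le le_sup_left ?_)
      have h1 : LinearMap.ker ψ.toLinearMap ≤ N ⊔ maximalIdeal (A : Type u) • LinearMap.ker ψ.toLinearMap := by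
        intro z hz
        have hz0 : ψ z = 0 := hz
        obtain ⟨y, hy, hy'⟩ := exists_sub_red_eq_zero hspan F hFred (z := z) (by rw [← hψ, hz0, map_zero])
        refine Submodule.mem_sup.2 ⟨y, hy, z - y, ?_, add_sub_cancel _ _⟩
        have hzy : ψ (z - y) = 0 := by rw [map_sub, hz0, RingHom.mem_ker.1 (hle hy), sub_zero]
        have h2 := Submodule.mem_map_of_mem (f := e) (mem_smul_top_of_red hy')
        rw [Submodule.map_smul'', he' _ hzy] at h2
        refine Submodule.smul_mono le_rfl ?_ h2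
        rintro _ ⟨w, -, rfl⟩
        exact he w
      refine (Submodule.smul_mono le_rfl h1).trans ?_
      rw [Submodule.smul_sup, ← Submodule.mul_smul, ← pow_succ]
      exact sup_le_sup_right Submodule.smul_le_right _
  have hK : ∀ z, z ∈ Ideal.span (Set.range F) ↔ ψ z = 0 := fun z => ⟨fun h => RingHom.mem_ker.1 (hle h), fun h => by
    obtain ⟨j, hj⟩ := hnil
    have := hKN j (show z ∈ LinearMap.ker ψ.toLinearMap from h)
    simp only [hj, Ideal.zero_eq_bot, Submodule.bot_smul, sup_bot_eq] at this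
    exact this⟩
  let lcA : (σ →₀ MvPolynomial ι (A : Type u)) →ₗ[(A : Type u)] N :=
    ((Finsupp.linearCombination _ F).restrictScalars (A : Type u)).codRestrict N fun v => by
      show Finsupp.linearCombination _ F v ∈ Submodule.span _ (Set.range F)
      rw [← Finsupp.range_linearCombination]
      exact ⟨v, rfl⟩
  have hlc : Function.Surjective lcA := by
    rintro ⟨z, hz⟩
    have hz' : z ∈ Submodule.span (MvPolynomial ι (A : Type u)) (Set.range F) := hz
    rw [← Finsupp.range_linearCombination] at hz'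
    obtain ⟨v, rfl⟩ := hz'
    exact ⟨v, rfl⟩
  obtain ⟨h, hh⟩ := Module.projective_lifting_property lcA (e.codRestrict N fun z => (hK _).2 (he z)) hlc
  refine ⟨⟨F, hFred, h, fun z hz => ?_⟩, hK⟩
  exact (congrArg Subtype.val (LinearMap.congr_fun hh z)).trans (he' z ((hK z).1 hz))

variable {C' C : Art k k} {p : C' ⟶ C} (hp : IsSemismallExt p)

include hp hs hspan in
/-- A deformation with a lift has vanishing obstruction for a suitable lift of the equations. -/
theorem exists_theta_eq_zero {D : Data B₀ C} (ψ : MvPolynomial ι (C : Type u) →ₐ[(C : Type u)] D.R)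
    (hψ : ∀ z, D.π (ψ z) = aM (red C z)) (𝔓 : Pack f C)
    (h𝔓 : ∀ z, z ∈ Ideal.span (Set.range 𝔓.F) ↔ ψ z = 0)
    (D' : Data B₀ C') (φ : D'.R →+* D.R)
    (hφ : ∀ a, φ (algebraMap (C' : Type u) D'.R a) = algebraMap (C : Type u) D.R (p a))
    (hπ : D.π.comp φ = D'.π) :
    ∃ (F' : σ → MvPolynomial ι (C' : Type u)) (hF' : ∀ s, cmap p (F' s) = 𝔓.F s),
      theta hp (f_eq_zero hspan) 𝔓 F' hF' = 0 := by
  classical
  have hφsmul : ∀ (a : (C' : Type u)) x, φ (a • x) = p a • φ x := fun a x => by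
    rw [Algebra.smul_def, map_mul, hφ, Algebra.smul_def]
  -- `φ` is surjective
  have hφs : Function.Surjective φ := by
    let N : Submodule (C : Type u) D.R :=
      { carrier := Set.range φ
        zero_mem' := ⟨0, map_zero φ⟩
        add_mem' := by rintro _ _ ⟨a, rfl⟩ ⟨b, rfl⟩; exact ⟨a + b, map_add φ a b⟩
        smul_mem' := by
          rintro c _ ⟨a, rfl⟩
          obtain ⟨c', rfl⟩ := hp.1 c
          exact ⟨c' • a, hφsmul c' a⟩ }
    have := eq_top_of_π D N fun x => ?_
    · exact fun y => (this.ge (Submodule.mem_top : y ∈ ⊤) :)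
    · obtain ⟨y, hy⟩ := D'.surj x
      exact ⟨φ y, ⟨y, rfl⟩, (RingHom.congr_fun hπ y).trans hy⟩
  choose r' hr' using fun i => hφs (ψ (MvPolynomial.X i))
  let ψ' : MvPolynomial ι (C' : Type u) →ₐ[(C' : Type u)] D'.R := MvPolynomial.aeval r'
  have hcomm : ∀ z, φ (ψ' z) = ψ (cmap p z) := fun z =>
    RingHom.congr_fun (MvPolynomial.ringHom_ext (f := φ.comp ψ'.toRingHom) (g := ψ.toRingHom.comp (cmap p))
      (fun a => by
        show φ (MvPolynomial.aeval r' (MvPolynomial.C a)) = ψ (cmap p (MvPolynomial.C a))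
        rw [MvPolynomial.aeval_C, hφ, cmap, MvPolynomial.map_C, ← MvPolynomial.algebraMap_eq, ψ.commutes]
        rfl)
      (fun i => by
        show φ (MvPolynomial.aeval r' (MvPolynomial.X i)) = ψ (cmap p (MvPolynomial.X i))
        rw [MvPolynomial.aeval_X, hr', cmap, MvPolynomial.map_X])) z
  have hψ' : ∀ z, D'.π (ψ' z) = aM (red C' z) := fun z => by
    rw [← hπ, RingHom.comp_apply, hcomm, hψ, red_cmap]
  have hψ's := aeval_surjective hs D' ψ' hψ'
  let b := Module.Basis.ofVectorSpace k B₀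
  choose v hv using fun i => D'.surj (b i)
  have hli := linearIndependent_lifts D (v := φ ∘ v) b fun i => (RingHom.congr_fun hπ (v i)).trans (hv i)
  have hspan' : Submodule.span (C' : Type u) (Set.range v) = ⊤ := eq_top_of_π D' _ fun x => by
    have hx : x ∈ Submodule.span k (Set.range b) := b.mem_span x
    induction hx using Submodule.span_induction with
    | mem y hy =>
      obtain ⟨i, rfl⟩ := hy
      exact ⟨v i, Submodule.subset_span ⟨i, rfl⟩, hv i⟩
    | zero => exact ⟨0, Submodule.zero_mem _, map_zero _⟩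
    | add y z _ _ hy hz =>
      obtain ⟨a, ha, rfl⟩ := hy
      obtain ⟨c, hc, rfl⟩ := hz
      exact ⟨a + c, add_mem ha hc, map_add _ _ _⟩
    | smul c y _ hy =>
      obtain ⟨a, ha, rfl⟩ := hy
      obtain ⟨c', rfl⟩ := C'.res_surjective c
      exact ⟨c' • a, Submodule.smul_mem _ _ ha, π_smul D' c' a⟩
  have hkerφ : ∀ x : D'.R, φ x = 0 →
      x ∈ (RingHom.ker p.toAlgHom : Ideal (C' : Type u)) • (⊤ : Submodule (C' : Type u) D'.R) := by
    intro x hx
    have hx' : x ∈ Submodule.span (C' : Type u) (Set.range v) := hspan'.ge Submodule.mem_top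
    rw [Finsupp.mem_span_range_iff_exists_finsupp] at hx'
    obtain ⟨c, rfl⟩ := hx'
    rw [Finsupp.sum, map_sum] at hx
    simp only [hφsmul] at hx
    refine Submodule.sum_mem _ fun i hi => Submodule.smul_mem_smul ?_ Submodule.mem_top
    exact RingHom.mem_ker.2 (linearIndependent_iff'.1 hli c.support _ hx i hi)
  -- the lift of the equations
  choose F' hF' hF'ψ using fun s => show ∃ z, cmap p z = 𝔓.F s ∧ ψ' z = 0 by
    obtain ⟨z₀, hz₀⟩ := cmap_surjective p hp.1 (𝔓.F s)
    have h1 := hkerφ (ψ' z₀) (by rw [hcomm, hz₀, ← h𝔓]; exact Ideal.subset_span ⟨s, rfl⟩)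
    rw [← (LinearMap.range_eq_top.2 hψ's : LinearMap.range ψ'.toLinearMap = ⊤), LinearMap.range_eq_map,
      ← Submodule.map_smul''] at h1
    obtain ⟨w, hw, hw'⟩ := h1
    refine ⟨z₀ - w, ?_, by rw [map_sub, show ψ' w = ψ' z₀ from hw', sub_self]⟩
    rw [map_sub, hz₀, sub_eq_self]
    refine Submodule.smul_induction_on hw (fun a ha y _ => ?_) fun x y hx hy => by rw [map_add, hx, hy, add_zero]
    rw [MvPolynomial.smul_eq_C_mul, map_mul, cmap, MvPolynomial.map_C,
      show (p.toAlgHom : (C' : Type u) →+* C) a = 0 from RingHom.mem_ker.1 ha, map_zero, zero_mul]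
  refine ⟨F', hF', LinearMap.ext fun a => ?_⟩
  obtain ⟨w, hw, hw'⟩ := exists_lift_rel hp 𝔓 a
  rw [theta_eq hp (f_eq_zero hspan) 𝔓 F' hF' a hw hw', LinearMap.zero_apply]
  generalize hz : Finsupp.linearCombination (MvPolynomial ι (C' : Type u)) F' w = z
  have hz0 : cmap p z = 0 := by rw [← hz, cmap_lc 𝔓 F' hF', hw']
  have hzψ : ψ' z = 0 := by
    rw [← hz, Finsupp.linearCombination_apply, Finsupp.sum, map_sum]
    exact Finset.sum_eq_zero fun s _ => by rw [smul_eq_mul, map_mul, hF'ψ, mul_zero]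
  let J := RingHom.ker p.toAlgHom
  let E := TensorProduct.equivFinsuppOfBasisLeft b (N := J) (R := k)
  let μ : B₀ ⊗[k] J →+ D'.R :=
    (Finsupp.liftAddHom fun i => ((AddMonoidHom.mk' (fun j : J => (j : (C' : Type u)) • v i)
      fun x y => add_smul (x : (C' : Type u)) (y : (C' : Type u)) (v i)) : J →+ D'.R)).comp E.toLinearMap.toAddMonoidHom
  have hjm : ∀ (j : J) (x : D'.R), D'.π x = 0 → (j : (C' : Type u)) • x = 0 := fun j x hx => by
    refine Submodule.smul_induction_on (mem_smul_top_of_π D' hx) (fun a ha y _ => ?_)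
      fun x y hx hy => by rw [smul_add, hx, hy, add_zero]
    rw [smul_smul, mul_comm, ArtFunLib.mul_eq_zero_of_semismall hp ha (RingHom.mem_ker.1 j.2), zero_smul]
  have hμ : ∀ (x : D'.R) (j : J), μ (D'.π x ⊗ₜ j) = (j : (C' : Type u)) • x := by
    intro x j
    have h1 : μ (D'.π x ⊗ₜ j) = (b.repr (D'.π x)).sum fun i c => ((c • j : J) : (C' : Type u)) • v i := by
      show Finsupp.liftAddHom _ (E (D'.π x ⊗ₜ j)) = _
      rw [TensorProduct.equivFinsuppOfBasisLeft_apply_tmul, Finsupp.liftAddHom_apply, Finsupp.sum_mapRange_index]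
      · rfl
      · intro i; exact map_zero _
    rw [h1, ← sub_eq_zero]
    have h2 : (b.repr (D'.π x)).sum (fun i c => ((c • j : J) : (C' : Type u)) • v i) =
        (j : (C' : Type u)) • (b.repr (D'.π x)).sum fun i c => algebraMap k (C' : Type u) c • v i := by
      rw [Finsupp.smul_sum]
      refine Finsupp.sum_congr fun i _ => ?_
      rw [smul_smul]
      congr 1
      rw [mul_comm, ← Algebra.smul_def]
      rfl
    rw [h2, ← smul_sub]
    refine hjm j _ ?_
    rw [map_sub, sub_eq_zero, map_finsuppSum]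
    conv_rhs => rw [← b.linearCombination_repr (D'.π x), Finsupp.linearCombination_apply]
    refine Finsupp.sum_congr fun i _ => ?_
    rw [π_smul, hv, C'.res.commutes]
    rfl
  have hμL : μ (Lmap (B₀ := B₀) p z) = ψ' z := by
    rw [MvPolynomial.as_sum z, map_sum, map_sum, map_sum]
    refine Finset.sum_congr rfl fun m _ => ?_
    rw [show MvPolynomial.coeff m z = ((⟨_, RingHom.mem_ker.2 (coeff_mem_of_cmap_eq_zero p hz0 m)⟩ : J) :
      (C' : Type u)) from rfl, Lmap_monomial_mem]
    have : aM (MvPolynomial.monomial m 1) = D'.π (ψ' (MvPolynomial.monomial m 1)) := by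
      rw [hψ', red, MvPolynomial.map_monomial]; simp
    rw [this, hμ, ← map_smul, MvPolynomial.smul_monomial, smul_eq_mul, mul_one]
  have hinj : ∀ x, μ x = 0 → x = 0 := by
    intro x hx
    obtain ⟨y, rfl⟩ := E.symm.surjective x
    change Finsupp.liftAddHom _ (E (E.symm y)) = 0 at hx
    rw [E.apply_symm_apply, Finsupp.liftAddHom_apply, Finsupp.sum] at hx
    refine (LinearEquiv.map_eq_zero_iff _).2 (Finsupp.ext fun i => ?_)
    by_contra hi
    have hv' := linearIndependent_iff'.1 (linearIndependent_lifts D' b v hv) y.support _ hx i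
      (Finsupp.mem_support_iff.2 hi)
    exact hi (Subtype.ext hv')
  exact hinj _ (hμL.trans hzψ)

include hp hs hspan in
/-- Vanishing obstruction gives a lift. -/
theorem exists_lift_of_theta_eq_zero {D : Data B₀ C} (ψ : MvPolynomial ι (C : Type u) →ₐ[(C : Type u)] D.R)
    (hψ : ∀ z, D.π (ψ z) = aM (red C z)) (𝔓 : Pack f C)
    (h𝔓 : ∀ z, z ∈ Ideal.span (Set.range 𝔓.F) ↔ ψ z = 0)
    (F' : σ → MvPolynomial ι (C' : Type u)) (hF' : ∀ s, cmap p (F' s) = 𝔓.F s)
    (hθ : theta hp (f_eq_zero hspan) 𝔓 F' hF' = 0) :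
    ∃ (D' : Data B₀ C') (φ : D'.R →+* D.R),
      (∀ a, φ (algebraMap (C' : Type u) D'.R a) = algebraMap (C : Type u) D.R (p a)) ∧ D.π.comp φ = D'.π := by
  classical
  let I' := Ideal.span (Set.range F')
  have hI'red : I' ≤ RingHom.ker (((algebraMap (MvPolynomial ι k) B₀)).comp (red C')) :=
    Ideal.span_le.2 (Set.range_subset_iff.2 fun s => RingHom.mem_ker.2 (by
      rw [RingHom.comp_apply, red_F' 𝔓 F' hF']; exact f_eq_zero hspan s))
  have hI'cmap : I' ≤ RingHom.ker (ψ.toRingHom.comp (cmap p)) :=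
    Ideal.span_le.2 (Set.range_subset_iff.2 fun s => RingHom.mem_ker.2 (by
      show ψ (cmap p (F' s)) = 0
      rw [hF', ← h𝔓]; exact Ideal.subset_span ⟨s, rfl⟩))
  let π' : MvPolynomial ι (C' : Type u) ⧸ I' →+* B₀ := Ideal.Quotient.lift I' _ hI'red
  let φ : MvPolynomial ι (C' : Type u) ⧸ I' →+* D.R := Ideal.Quotient.lift I' _ hI'cmap
  have hπφ : ∀ z, D.π (φ z) = π' z := by
    intro z
    obtain ⟨z, rfl⟩ := Ideal.Quotient.mk_surjective z
    show D.π (ψ (cmap p z)) = aM (red C' z)
    rw [hψ, red_cmap]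
  have hπsmul : ∀ (a : (C' : Type u)) x, π' (a • x) = C'.res a • π' x := by
    intro a x
    obtain ⟨x, rfl⟩ := Ideal.Quotient.mk_surjective x
    show aM (red C' (a • x)) = C'.res a • aM (red C' x)
    rw [MvPolynomial.smul_eq_C_mul, map_mul, red_C, ← MvPolynomial.smul_eq_C_mul, aM_smul]
  have hker : ∀ x, π' x = 0 →
      x ∈ maximalIdeal (C' : Type u) • (⊤ : Submodule (C' : Type u) (MvPolynomial ι (C' : Type u) ⧸ I')) := by
    intro x hx
    obtain ⟨z, rfl⟩ := Ideal.Quotient.mk_surjective x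
    obtain ⟨y, hy, hy'⟩ := exists_sub_red_eq_zero hspan F' (red_F' 𝔓 F' hF') (z := z) hx
    have h1 := Submodule.mem_map_of_mem (f := (Ideal.Quotient.mkₐ (C' : Type u) I').toLinearMap)
      (mem_smul_top_of_red hy')
    rw [Submodule.map_smul''] at h1
    have h2 : Ideal.Quotient.mkₐ (C' : Type u) I' (z - y) = Ideal.Quotient.mk I' z :=
      (Ideal.Quotient.mk_eq_mk_iff_sub_mem _ _).2 (by rwa [sub_sub_cancel_left, neg_mem_iff])
    rw [← h2]
    exact Submodule.smul_mono le_rfl le_top h1
  let b := Module.Basis.ofVectorSpace k B₀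
  choose w hw using fun i => show ∃ w, aM (red C' w) = b i by
    obtain ⟨w₀, hw₀⟩ := hs (b i)
    obtain ⟨w, rfl⟩ := red_surjective C' w₀
    exact ⟨w, hw₀⟩
  have hgen : Submodule.span (C' : Type u) (Set.range fun i => Ideal.Quotient.mk I' (w i)) = ⊤ := by
    refine FlatCrit.submodule_eq_top_of_nilpotent (ArtFunLib.maximalIdeal_nilpotent C') _ (eq_top_iff.2 fun x _ => ?_)
    have hx : π' x ∈ Submodule.span k (Set.range b) := b.mem_span _
    obtain ⟨y, hy, hy'⟩ : ∃ y ∈ Submodule.span (C' : Type u) (Set.range fun i => Ideal.Quotient.mk I' (w i)),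
        π' y = π' x := by
      generalize π' x = x₀ at hx
      induction hx using Submodule.span_induction with
      | mem y hy =>
        obtain ⟨i, rfl⟩ := hy
        exact ⟨_, Submodule.subset_span ⟨i, rfl⟩, hw i⟩
      | zero => exact ⟨0, Submodule.zero_mem _, map_zero _⟩
      | add y z _ _ hy hz =>
        obtain ⟨a, ha, rfl⟩ := hy
        obtain ⟨c, hc, rfl⟩ := hz
        exact ⟨a + c, add_mem ha hc, map_add _ _ _⟩
      | smul c y _ hy =>
        obtain ⟨a, ha, rfl⟩ := hy
        obtain ⟨c', rfl⟩ := C'.res_surjective c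
        exact ⟨c' • a, Submodule.smul_mem _ _ ha, hπsmul c' a⟩
    exact Submodule.mem_sup.2 ⟨y, hy, x - y, hker _ (by rw [map_sub, hy', sub_self]), add_sub_cancel _ _⟩
  have hli := linearIndependent_lifts D (v := fun i => φ (Ideal.Quotient.mk I' (w i))) b fun i =>
    (hπφ _).trans (hw i)
  have hli' : LinearIndependent (C' : Type u) fun i => Ideal.Quotient.mk I' (w i) := by
    rw [linearIndependent_iff']
    intro s c hc i hi
    have hz : ∑ j ∈ s, c j • w j ∈ I' := by
      rw [← Ideal.Quotient.eq_zero_iff_mem, map_sum]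
      exact hc
    have hc0 : ∀ j ∈ s, p (c j) = 0 := by
      intro j hj
      refine linearIndependent_iff'.1 hli s (fun l => p (c l)) ?_ j hj
      rw [← map_zero φ, ← hc, map_sum]
      refine Finset.sum_congr rfl fun l _ => ?_
      show p (c l) • ψ (cmap p (w l)) = ψ (cmap p (c l • w l))
      rw [MvPolynomial.smul_eq_C_mul, map_mul, cmap, MvPolynomial.map_C, ← MvPolynomial.smul_eq_C_mul, map_smul]
      rfl
    have hz' : ∑ j ∈ s, c j • w j ∈ Submodule.span (MvPolynomial ι (C' : Type u)) (Set.range F') := hz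
    rw [← Finsupp.range_linearCombination] at hz'
    obtain ⟨v, hv⟩ := hz'
    have hz0 : cmap p (∑ j ∈ s, c j • w j) = 0 := by
      rw [map_sum]
      refine Finset.sum_eq_zero fun j hj => ?_
      rw [MvPolynomial.smul_eq_C_mul, map_mul, cmap, MvPolynomial.map_C,
        show (p.toAlgHom : (C' : Type u) →+* C) (c j) = 0 from hc0 j hj, map_zero, zero_mul]
    have hva : Finsupp.linearCombination _ f (vmap (red C') v) = 0 := by
      rw [show f = (red C') ∘ F' from (funext (red_F' 𝔓 F' hF')).symm, ← map_lc, hv, ← red_cmap p, hz0, map_zero]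
    have hL := theta_eq (B₀ := B₀) hp (f_eq_zero hspan) 𝔓 F' hF' ⟨vmap (red C') v, hva⟩ (v := v) rfl
      (by rw [← cmap_lc 𝔓 F' hF', hv, hz0])
    rw [hθ, LinearMap.zero_apply, hv, map_sum] at hL
    have hb : ∀ j ∈ s, Lmap (B₀ := B₀) p (c j • w j) =
        b j ⊗ₜ retr p (c j) := by
      intro j hj
      rw [MvPolynomial.smul_eq_C_mul, mul_comm, Lmap_mul hp _ (by
        rw [cmap, MvPolynomial.map_C, show (p.toAlgHom : (C' : Type u) →+* C) (c j) = 0 from hc0 j hj, map_zero]),
        hw, ← MvPolynomial.monomial_zero', Lmap_monomial, MvPolynomial.monomial_zero', map_one, map_one,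
        TensorProduct.smul_tmul', smul_eq_mul, mul_one]
    rw [Finset.sum_congr rfl hb] at hL
    have hE := congrArg (fun t => TensorProduct.equivFinsuppOfBasisLeft b t i) hL
    simp only [map_zero, Finsupp.zero_apply, map_sum, Finsupp.finsetSum_apply,
      TensorProduct.equivFinsuppOfBasisLeft_apply_tmul_apply, Module.Basis.repr_self, Finsupp.single_apply,
      ite_smul, one_smul, zero_smul, Finset.sum_ite_eq', hi, if_true] at hE
    have hr : retr p ((⟨c i, RingHom.mem_ker.2 (hc0 i hi)⟩ : ↥(RingHom.ker p.toAlgHom)) : (C' : Type u)) =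
      ⟨c i, RingHom.mem_ker.2 (hc0 i hi)⟩ := (exists_retraction p).choose_spec _
    exact congrArg Subtype.val (hr.symm.trans hE.symm)
  let basis := Module.Basis.mk hli' hgen.ge
  haveI : Module.Free (C' : Type u) (MvPolynomial ι (C' : Type u) ⧸ I') := Module.Free.of_basis basis
  refine ⟨{
    R := MvPolynomial ι (C' : Type u) ⧸ I'
    π := π'
    surj := fun x => ?_
    comp_alg := fun a => ?_
    ker_le := fun x hx => ?_ }, φ, fun a => ?_, RingHom.ext hπφ⟩
  · obtain ⟨z₀, rfl⟩ := hs x
    obtain ⟨z, rfl⟩ := red_surjective C' z₀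
    exact ⟨Ideal.Quotient.mk I' z, rfl⟩
  · show aM (red C' (MvPolynomial.C a)) = _
    rw [red_C, IsScalarTower.algebraMap_apply k (MvPolynomial ι k) B₀]
    rfl
  · have := hker x hx
    rwa [Ideal.smul_top_eq_map] at this
  · show ψ (cmap p (MvPolynomial.C a)) = _
    rw [cmap, MvPolynomial.map_C]
    exact ψ.commutes _

end Groth.Agent.AffObs29
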