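import Groth.Agent.AffObs29.Lift
import Groth.Agent.Et18.DefT1T1
import Groth.Prelude.Def_ArtFun3
import Groth.Prelude.Def_CotT

/-!
# The obstruction theory of an affine scheme with values in `T²`
-/

set_option autoImplicit false
set_option backward.isDefEq.respectTransparency.types false
set_option backward.isDefEq.respectTransparency false
set_option linter.style.haveILetI false
universe u

open AlgebraicGeometry CategoryTheory ArtFun ArtFun.Art
open Groth.Agent.Et18
open scoped TensorProduct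

noncomputable section

namespace Groth.Agent.AffObs29

variable {k B : Type u} [Field k] [CommRing B] [Algebra k B] {ι σ : Type u} (Q : Algebra.Presentation k B ι σ)

section Coeff

variable {J J' : Type u} [AddCommGroup J] [Module k J] [AddCommGroup J'] [Module k J']

theorem T2map_T2map {M M' M'' : Type u} [AddCommGroup M] [Module B M] [AddCommGroup M'] [Module B M']
    [AddCommGroup M''] [Module B M''] (g : M' →ₗ[B] M'') (h : M →ₗ[B] M') (t : CotT.T2 Q M) :
    CotT.T2map Q g (CotT.T2map Q h t) = CotT.T2map Q (g ∘ₗ h) t := by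
  obtain ⟨φ, rfl⟩ := Submodule.Quotient.mk_surjective _ t
  rfl

/-- `b ↦ b ⊗ j` -/
def mkr (j : J) : B →ₗ[B] B ⊗[k] J := LinearMap.toSpanSingleton B _ ((1 : B) ⊗ₜ j)

theorem mkr_apply (j : J) (b : B) : mkr (k := k) j b = b ⊗ₜ j := by
  simp [mkr, TensorProduct.smul_tmul']

variable (J) in
/-- `T²(B) ⊗ J → T²(B ⊗ J)` -/
def coeffMap : (CotT.T2 Q B) ⊗[k] J →ₗ[k] CotT.T2 Q (B ⊗[k] J) :=
  TensorProduct.lift (LinearMap.mk₂ k (fun t j => CotT.T2map Q (mkr (k := k) (B := B) j) t)
    (fun t t' j => map_add _ _ _)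
    (fun c t j => LinearMap.map_smul_of_tower _ c t)
    (fun t j j' => by
      obtain ⟨φ, rfl⟩ := Submodule.Quotient.mk_surjective _ t
      refine congrArg Submodule.Quotient.mk (LinearMap.ext fun z => ?_)
      show mkr (k := k) (B := B) (j + j') (φ z) = mkr (k := k) (B := B) j (φ z) + mkr (k := k) (B := B) j' (φ z)
      simp only [mkr_apply, TensorProduct.tmul_add])
    (fun c t j => by
      obtain ⟨φ, rfl⟩ := Submodule.Quotient.mk_surjective _ t
      refine congrArg Submodule.Quotient.mk (LinearMap.ext fun z => ?_)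
      show mkr (k := k) (B := B) (c • j) (φ z) = c • mkr (k := k) (B := B) j (φ z)
      simp only [mkr_apply, TensorProduct.tmul_smul]))

theorem coeffMap_tmul (t : CotT.T2 Q B) (j : J) :
    coeffMap Q J (t ⊗ₜ j) = CotT.T2map Q (mkr (k := k) (B := B) j) t := rfl

theorem bijective_of_coord {V W : Type u} [AddCommGroup V] [Module k V] [AddCommGroup W] [Module k W] {n : ℕ}
    (e : Module.Basis (Fin n) k J) (μ : V ⊗[k] J →ₗ[k] W) (ip : Fin n → (V → W)) (pp : Fin n → (W →+ V))
    (hμ : ∀ i v, μ (v ⊗ₜ e i) = ip i v) (hδ : ∀ i l v, pp i (ip l v) = if l = i then v else 0)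
    (hsum : ∀ w, ∑ i, ip i (pp i w) = w) : Function.Bijective μ := by
  classical
  have hdec : ∀ x : V ⊗[k] J, ∃ v : Fin n → V, x = ∑ i, v i ⊗ₜ e i := by
    intro x
    induction x using TensorProduct.induction_on with
    | zero => exact ⟨0, by simp⟩
    | add x y hx hy =>
      obtain ⟨a, rfl⟩ := hx
      obtain ⟨b, rfl⟩ := hy
      exact ⟨a + b, by simp [TensorProduct.add_tmul, Finset.sum_add_distrib]⟩
    | tmul v j =>
      refine ⟨fun i => e.repr j i • v, ?_⟩
      conv_lhs => rw [← e.sum_repr j, TensorProduct.tmul_sum]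
      exact Finset.sum_congr rfl fun i _ => (TensorProduct.smul_tmul _ _ _).symm
  constructor
  · rw [injective_iff_map_eq_zero]
    intro x hx
    obtain ⟨v, rfl⟩ := hdec x
    refine Finset.sum_eq_zero fun i _ => ?_
    have h := congrArg (pp i) hx
    simp only [map_sum, map_zero, hμ, hδ, Finset.sum_ite_eq', Finset.mem_univ, if_true] at h
    rw [h, TensorProduct.zero_tmul]
  · intro w
    exact ⟨∑ i, pp i w ⊗ₜ e i, by simp only [map_sum, hμ, hsum]⟩

theorem coeffMap_bijective [Module.Finite k J] : Function.Bijective (coeffMap Q J) := by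
  classical
  let e := Module.finBasis k J
  let pr : Fin (Module.finrank k J) → (B ⊗[k] J →ₗ[B] B) := fun i =>
    (TensorProduct.AlgebraTensorModule.rid k B B).toLinearMap ∘ₗ
      TensorProduct.AlgebraTensorModule.lTensor B B (e.coord i)
  have hpr : ∀ i b j, pr i (b ⊗ₜ j) = e.repr j i • b := by
    intro i b j
    show (TensorProduct.AlgebraTensorModule.rid k B B) (TensorProduct.AlgebraTensorModule.lTensor B B (e.coord i)
      (b ⊗ₜ j)) = _
    rw [TensorProduct.AlgebraTensorModule.lTensor_tmul, TensorProduct.AlgebraTensorModule.rid_tmul,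
      Module.Basis.coord_apply]
  have hid : ∀ x : B ⊗[k] J, ∑ i, mkr (k := k) (B := B) (e i) (pr i x) = x := by
    intro x
    induction x using TensorProduct.induction_on with
    | zero => simp
    | add x y hx hy => simp only [map_add, Finset.sum_add_distrib, hx, hy]
    | tmul b j =>
      conv_rhs => rw [← e.sum_repr j, TensorProduct.tmul_sum]
      exact Finset.sum_congr rfl fun i _ => by rw [hpr, mkr_apply, TensorProduct.smul_tmul]
  refine bijective_of_coord e (coeffMap Q J) (fun i => CotT.T2map Q (mkr (k := k) (B := B) (e i)))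
    (fun i => (CotT.T2map Q (pr i)).toAddMonoidHom) (fun i v => rfl) (fun i l v => ?_) (fun w => ?_)
  · obtain ⟨φ, rfl⟩ := Submodule.Quotient.mk_surjective _ v
    show CotT.toT2 Q B (pr i ∘ₗ mkr (k := k) (B := B) (e l) ∘ₗ φ) = _
    rcases eq_or_ne l i with h | h
    · rw [if_pos h]
      refine congrArg (CotT.toT2 Q B) (LinearMap.ext fun z => ?_)
      show pr i (mkr (k := k) (B := B) (e l) (φ z)) = φ z
      rw [mkr_apply, hpr, h, Module.Basis.repr_self, Finsupp.single_eq_same, one_smul]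
    · rw [if_neg h]
      refine (congrArg (CotT.toT2 Q B) (LinearMap.ext fun z => ?_)).trans (CotT.toT2 Q B).map_zero
      show pr i (mkr (k := k) (B := B) (e l) (φ z)) = 0
      rw [mkr_apply, hpr, Module.Basis.repr_self, Finsupp.single_eq_of_ne' h, zero_smul]
  · obtain ⟨φ, rfl⟩ := Submodule.Quotient.mk_surjective _ w
    show ∑ i, CotT.toT2 Q (B ⊗[k] J) (mkr (k := k) (B := B) (e i) ∘ₗ pr i ∘ₗ φ) = CotT.toT2 Q (B ⊗[k] J) φ
    rw [← map_sum (CotT.toT2 Q (B ⊗[k] J))]
    refine congrArg (CotT.toT2 Q (B ⊗[k] J)) (LinearMap.ext fun z => ?_)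
    rw [LinearMap.sum_apply]
    exact hid (φ z)

/-- `B ⊗ g` -/
abbrev bg (g : J →ₗ[k] J') : B ⊗[k] J →ₗ[B] B ⊗[k] J' := TensorProduct.AlgebraTensorModule.lTensor B B g

theorem coeffMap_natural (g : J →ₗ[k] J') (x : (CotT.T2 Q B) ⊗[k] J) :
    CotT.T2map Q (bg (B := B) g) (coeffMap Q J x) = coeffMap Q J' (LinearMap.lTensor _ g x) := by
  induction x using TensorProduct.induction_on with
  | zero =>
    exact ((congrArg _ (coeffMap Q J).map_zero).trans (CotT.T2map Q (bg (B := B) g)).map_zero).trans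
      ((congrArg _ (LinearMap.lTensor _ g).map_zero).trans (coeffMap Q J').map_zero).symm
  | add x y hx hy =>
    exact ((congrArg _ ((coeffMap Q J).map_add x y)).trans (((CotT.T2map Q (bg (B := B) g)).map_add _ _).trans
      (congrArg₂ (· + ·) hx hy))).trans
      ((congrArg _ ((LinearMap.lTensor _ g).map_add x y)).trans ((coeffMap Q J').map_add _ _)).symm
  | tmul t j =>
    show CotT.T2map Q (bg (B := B) g) (CotT.T2map Q (mkr (k := k) (B := B) j) t) =
      CotT.T2map Q (mkr (k := k) (B := B) (g j)) t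
    refine (T2map_T2map Q _ _ t).trans (congrArg (fun h => CotT.T2map Q h t) (LinearMap.ext fun b => ?_))
    show bg (B := B) g (mkr (k := k) (B := B) j b) = mkr (k := k) (B := B) (g j) b
    rw [mkr_apply, mkr_apply]
    rfl

theorem symm_square {X X' Y Y' : Type u} (e : X ≃ Y) (e' : X' ≃ Y') (f : X → X') (g : Y → Y')
    (h : ∀ z, g (e z) = e' (f z)) (y : Y) : e'.symm (g y) = f (e.symm y) := by
  rw [Equiv.symm_apply_eq, ← h, Equiv.apply_symm_apply]

variable (J) in
/-- `T²(B) ⊗ J ≃ T²(B ⊗ J)` -/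
def coeffEquiv [Module.Finite k J] : (CotT.T2 Q B) ⊗[k] J ≃ₗ[k] CotT.T2 Q (B ⊗[k] J) :=
  LinearEquiv.ofBijective (coeffMap Q J) (coeffMap_bijective Q)

theorem coeffEquiv_symm_natural [Module.Finite k J] [Module.Finite k J'] (g : J →ₗ[k] J')
    (x : CotT.T2 Q (B ⊗[k] J)) (y : CotT.T2 Q (B ⊗[k] J')) (h : y = CotT.T2map Q (bg (B := B) g) x) :
    (coeffEquiv Q J').symm y = LinearMap.lTensor _ g ((coeffEquiv Q J).symm x) := by
  subst h
  exact symm_square (coeffEquiv Q J).toEquiv (coeffEquiv Q J').toEquiv (LinearMap.lTensor _ g)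
    (CotT.T2map Q (bg (B := B) g)) (fun z => coeffMap_natural Q g z) x

end Coeff

section Obs

variable [Algebra (MvPolynomial ι k) B] [IsScalarTower k (MvPolynomial ι k) B]
  (hQ : ∀ z : MvPolynomial ι k, algebraMap (MvPolynomial ι k) B z = algebraMap Q.toExtension.Ring B z)
variable {C' C : Art k k} {p : C' ⟶ C} (hp : IsSemismallExt p)

include hQ in
theorem surj : Function.Surjective (algebraMap (MvPolynomial ι k) B) := fun b => by
  obtain ⟨z, hz⟩ := Q.toExtension.algebraMap_surjective b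
  exact ⟨z, (hQ z).trans hz⟩

include hQ in
theorem span_rel : RingHom.ker (algebraMap (MvPolynomial ι k) B) = Ideal.span (Set.range Q.relation) := by
  rw [Q.span_range_relation_eq_ker]
  exact Ideal.ext fun z => by
    rw [RingHom.mem_ker, hQ]
    rfl

variable (𝔓 : Pack Q.relation C) (F' : σ → MvPolynomial ι (C' : Type u)) (hF' : ∀ s, cmap p (F' s) = 𝔓.F s)

local notation "θ" => theta hp (f_eq_zero (span_rel Q hQ)) 𝔓 F' hF'

theorem mem_relK (a : CotT.relKer Q) : a.1 ∈ relK (k := k) (ι := ι) Q.relation := a.2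

/-- A linear map on relations, over the ring of the presentation. -/
def toRing {M : Type u} [AddCommGroup M] [Module B M] [Module (MvPolynomial ι k) M]
    [IsScalarTower (MvPolynomial ι k) B M] [Module Q.toExtension.Ring M] [IsScalarTower Q.toExtension.Ring B M]
    (hQ : ∀ z : MvPolynomial ι k, algebraMap (MvPolynomial ι k) B z = algebraMap Q.toExtension.Ring B z)
    (T : relK (k := k) (ι := ι) Q.relation →ₗ[MvPolynomial ι k] M) : CotT.relKer Q →ₗ[Q.toExtension.Ring] M where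
  toFun a := T ⟨a.1, mem_relK Q a⟩
  map_add' a b := T.map_add ⟨a.1, mem_relK Q a⟩ ⟨b.1, mem_relK Q b⟩
  map_smul' r a := by
    have key : ∀ (r' : MvPolynomial ι k) (x : M), r' • x = (@id Q.toExtension.Ring r') • x := fun r' x =>
      (algebraMap_smul B r' x).symm.trans ((congrArg (fun c : B => c • x) (hQ r')).trans
        (algebraMap_smul B (@id Q.toExtension.Ring r') x))
    exact (T.map_smul (@id (MvPolynomial ι k) r) ⟨a.1, mem_relK Q a⟩).trans (key (@id (MvPolynomial ι k) r) _)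

/-- The obstruction on relations, for the presentation. -/
def theta' : CotT.relKer Q →ₗ[Q.toExtension.Ring] B ⊗[k] ↥(RingHom.ker p.toAlgHom) := toRing Q hQ θ

theorem theta'_trivRel (x : CotT.relKer Q) (hx : x ∈ CotT.trivRelKer Q) : theta' Q hQ hp 𝔓 F' hF' x = 0 := by
  suffices ∀ y ∈ CotT.trivRel Q, ∀ hy : y ∈ CotT.relKer Q, theta' Q hQ hp 𝔓 F' hF' ⟨y, hy⟩ = 0 from this x.1 hx x.2
  intro y hy
  induction hy using Submodule.span_induction with
  | mem y hy =>
    obtain ⟨a, b, rfl⟩ := hy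
    intro h
    exact theta_triv hp (f_eq_zero (span_rel Q hQ)) 𝔓 F' hF' ⟨_, mem_relK Q ⟨_, h⟩⟩ a b rfl
  | zero => exact fun _ => map_zero _
  | add y z hy hz hy' hz' =>
    intro h
    have e : (⟨y + z, h⟩ : CotT.relKer Q) =
      ⟨y, CotT.trivRel_le_relKer Q hy⟩ + ⟨z, CotT.trivRel_le_relKer Q hz⟩ := rfl
    rw [e, map_add, hy', hz', add_zero]
  | smul r y hy hy' =>
    intro h
    have e : (⟨r • y, h⟩ : CotT.relKer Q) = r • ⟨y, CotT.trivRel_le_relKer Q hy⟩ := rfl
    rw [e, map_smul, hy', smul_zero]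

/-- The obstruction cocycle. -/
def phi : CotT.L2 Q →ₗ[B] B ⊗[k] ↥(RingHom.ker p.toAlgHom) :=
  Submodule.liftQ _ (LinearMap.liftBaseChange B (theta' Q hQ hp 𝔓 F' hF')) (by
    rw [LinearMap.range_le_ker_iff]
    refine TensorProduct.AlgebraTensorModule.ext fun b x => ?_
    simp only [LinearMap.coe_comp, Function.comp_apply, LinearMap.baseChange_tmul, Submodule.coe_subtype,
      LinearMap.liftBaseChange_tmul, LinearMap.zero_apply]
    rw [theta'_trivRel Q hQ hp 𝔓 F' hF' _ x.2, smul_zero])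

theorem phi_tmul (b : B) (a : CotT.relKer Q) :
    phi Q hQ hp 𝔓 F' hF' (Submodule.Quotient.mk (b ⊗ₜ a)) = b • θ ⟨a.1, mem_relK Q a⟩ := by
  simp [phi, theta', toRing]

/-- The obstruction class. -/
def cls : CotT.T2 Q (B ⊗[k] ↥(RingHom.ker p.toAlgHom)) := CotT.toT2 Q _ (phi Q hQ hp 𝔓 F' hF')

include hQ in
theorem xi_tmul {M : Type u} [AddCommGroup M] [Module B M] [Module (MvPolynomial ι k) M]
    [IsScalarTower (MvPolynomial ι k) B M] (ξ : CotT.L1 Q →ₗ[B] M) (a : σ →₀ MvPolynomial ι k) :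
    Finsupp.linearCombination (MvPolynomial ι k) (fun s => ξ (CotT.L1basis Q s)) a =
      ξ ((1 : B) ⊗ₜ (a : CotT.relMod Q)) := by
  induction a using Finsupp.induction_linear with
  | zero => simp only [map_zero]; exact (map_zero ξ).symm.trans (congrArg ξ (TensorProduct.tmul_zero _ _).symm)
  | add a b ha hb =>
    rw [map_add, ha, hb, ← map_add, ← TensorProduct.tmul_add]
  | single s q =>
    rw [Finsupp.linearCombination_single, ← algebraMap_smul B q, ← map_smul, CotT.L1basis_apply,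
      hQ, algebraMap_smul]
    refine congrArg ξ ((TensorProduct.tmul_smul _ _ _).symm.trans ?_)
    congr 1
    exact (Finsupp.smul_single _ _ _).trans (by rw [smul_eq_mul, mul_one])

theorem cls_eq_zero_iff : cls Q hQ hp 𝔓 F' hF' = 0 ↔
    ∃ (ε : σ → MvPolynomial ι (C' : Type u)) (_ : ∀ s, cmap p (ε s) = 0) (h : ∀ s, cmap p ((F' - ε) s) = 𝔓.F s),
      theta hp (f_eq_zero (span_rel Q hQ)) 𝔓 (F' - ε) h = 0 := by
  constructor
  · intro h
    obtain ⟨ξ, hξ⟩ := (Submodule.Quotient.mk_eq_zero _).1 h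
    choose ε hε hεL using fun s => exists_Lmap_eq (B₀ := B) p (surj Q hQ) (ξ (CotT.L1basis Q s))
    have hF'' : ∀ s, cmap p ((F' - ε) s) = 𝔓.F s := fun s => by
      rw [Pi.sub_apply, map_sub, hε, hF', sub_zero]
    refine ⟨ε, hε, hF'', LinearMap.ext fun a => ?_⟩
    rw [theta_sub hp (f_eq_zero (span_rel Q hQ)) 𝔓 F' hF' ε hε hF'' a, LinearMap.zero_apply]
    have h1 := LinearMap.congr_fun hξ (Submodule.Quotient.mk ((1 : B) ⊗ₜ (⟨a.1, a.2⟩ : CotT.relKer Q)))
    rw [phi_tmul, one_smul, CotT.d2Star_apply, LinearMap.comp_apply, CotT.d2_mk_tmul] at h1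
    rw [show (fun s => Lmap (B₀ := B) p (ε s)) = fun s => ξ (CotT.L1basis Q s) from funext hεL, xi_tmul Q hQ ξ]
    exact sub_eq_zero.2 h1.symm
  · rintro ⟨ε, hε, hF'', h⟩
    let ξ : CotT.L1 Q →ₗ[B] B ⊗[k] ↥(RingHom.ker p.toAlgHom) :=
      (CotT.L1basis Q).constr B fun s => Lmap (B₀ := B) p (ε s)
    refine (Submodule.Quotient.mk_eq_zero _).2 ⟨ξ, ?_⟩
    refine Submodule.linearMap_qext _ (TensorProduct.AlgebraTensorModule.ext fun b a => ?_)
    have h1 : ξ ((1 : B) ⊗ₜ (a : CotT.relMod Q)) = θ ⟨a.1, mem_relK Q a⟩ := by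
      refine (xi_tmul Q hQ ξ a.1).symm.trans ?_
      have h2 := LinearMap.congr_fun h ⟨a.1, mem_relK Q a⟩
      rw [theta_sub hp (f_eq_zero (span_rel Q hQ)) 𝔓 F' hF' ε hε hF'', LinearMap.zero_apply, sub_eq_zero] at h2
      rw [h2]
      simp only [ξ, Module.Basis.constr_basis]
    show CotT.d2Star Q _ ξ (Submodule.Quotient.mk (b ⊗ₜ a)) = phi Q hQ hp 𝔓 F' hF' (Submodule.Quotient.mk (b ⊗ₜ a))
    rw [phi_tmul, CotT.d2Star_apply, LinearMap.comp_apply, CotT.d2_mk_tmul, ← h1, ← map_smul,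
      TensorProduct.smul_tmul', smul_eq_mul, mul_one]

/-- Independence of the lift of the equations. -/
theorem cls_congr (F'' : σ → MvPolynomial ι (C' : Type u)) (hF'' : ∀ s, cmap p (F'' s) = 𝔓.F s) :
    cls Q hQ hp 𝔓 F' hF' = cls Q hQ hp 𝔓 F'' hF'' := by
  obtain ⟨ε, rfl⟩ : ∃ ε, F'' = F' - ε := ⟨F' - F'', (sub_sub_cancel _ _).symm⟩
  have hε : ∀ s, cmap p (ε s) = 0 := fun s => by
    have := hF'' s
    rw [Pi.sub_apply, map_sub, hF' s, sub_eq_self] at this
    exact this
  let ξ : CotT.L1 Q →ₗ[B] B ⊗[k] ↥(RingHom.ker p.toAlgHom) :=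
    (CotT.L1basis Q).constr B fun s => Lmap (B₀ := B) p (ε s)
  rw [← sub_eq_zero, cls, cls, ← map_sub]
  refine (Submodule.Quotient.mk_eq_zero _).2 ⟨ξ, ?_⟩
  refine Submodule.linearMap_qext _ (TensorProduct.AlgebraTensorModule.ext fun b a => ?_)
  show CotT.d2Star Q _ ξ (Submodule.Quotient.mk (b ⊗ₜ a)) =
    phi Q hQ hp 𝔓 F' hF' (Submodule.Quotient.mk (b ⊗ₜ a)) - phi Q hQ hp 𝔓 (F' - ε) hF'' (Submodule.Quotient.mk (b ⊗ₜ a))
  have key : theta hp (f_eq_zero (span_rel Q hQ)) 𝔓 F' hF' ⟨a.1, mem_relK Q a⟩ -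
      theta hp (f_eq_zero (span_rel Q hQ)) 𝔓 (F' - ε) hF'' ⟨a.1, mem_relK Q a⟩ =
      Finsupp.linearCombination (MvPolynomial ι k) (fun s => Lmap (B₀ := B) p (ε s)) a.1 := by
    rw [theta_sub hp (f_eq_zero (span_rel Q hQ)) 𝔓 F' hF' ε hε, sub_sub_cancel]
  rw [phi_tmul, phi_tmul]
  refine Eq.trans ?_ ((congrArg (fun x => b • x) key).symm.trans (smul_sub b _ _))
  rw [CotT.d2Star_apply, LinearMap.comp_apply, CotT.d2_mk_tmul]
  rw [show (fun s => Lmap (B₀ := B) p (ε s)) = fun s => ξ (CotT.L1basis Q s) from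
    funext fun s => ((CotT.L1basis Q).constr_basis B (fun s => Lmap (B₀ := B) p (ε s)) s).symm, xi_tmul Q hQ, ← map_smul, TensorProduct.smul_tmul',
    smul_eq_mul, mul_one]

end Obs

section Theory

open AffDef

variable [Algebra (MvPolynomial ι k) B] [IsScalarTower k (MvPolynomial ι k) B]
  (hQ : ∀ z : MvPolynomial ι k, algebraMap (MvPolynomial ι k) B z = algebraMap Q.toExtension.Ring B z)

set_option quotPrecheck false in
local notation "DefB" => defFunctor (Λ := k) (Spec (CommRingCat.of B)) (AffDef.str₀ k B)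

variable {C : Art k k}

include Q hQ in
theorem exists_choice (u : (DefB).obj C) :
    ∃ (D : Data B C) (ψ : MvPolynomial ι (C : Type u) →ₐ[(C : Type u)] D.R) (𝔓 : Pack Q.relation C),
      D.toDef.cl = u ∧ (∀ z, D.π (ψ z) = algebraMap (MvPolynomial ι k) B (red C z)) ∧
      ∀ z, z ∈ Ideal.span (Set.range 𝔓.F) ↔ ψ z = 0 := by
  induction u using Quotient.inductionOn with
  | h ξ =>
    obtain ⟨D, ⟨e⟩⟩ := AffDef.exists_data ξ
    obtain ⟨ψ, hψ⟩ := exists_aeval (ι := ι) D
    obtain ⟨𝔓, h𝔓⟩ := exists_pack (surj Q hQ) (span_rel Q hQ) D ψ hψ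
    exact ⟨D, ψ, 𝔓, Quotient.sound ⟨e⟩, hψ, h𝔓⟩

/-- The chosen equations of a deformation. -/
def pack (u : (DefB).obj C) : Pack Q.relation C := (exists_choice Q hQ u).choose_spec.choose_spec.choose

variable {C' : Art k k} {p : C' ⟶ C} (hp : IsSemismallExt p)

include hp hQ in
/-- A lift of the chosen equations. -/
theorem exists_F' (u : (DefB).obj C) : ∃ F' : σ → MvPolynomial ι (C' : Type u), ∀ s, cmap p (F' s) = (pack Q hQ u).F s :=
  ⟨fun s => (cmap_surjective p hp.1 _).choose, fun s => (cmap_surjective p hp.1 _).choose_spec⟩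

/-- The class in `T²(B ⊗ J)`. -/
def obsCls (u : (DefB).obj C) : CotT.T2 Q (B ⊗[k] ↥(RingHom.ker p.toAlgHom)) :=
  cls Q hQ hp (pack Q hQ u) (exists_F' Q hQ hp u).choose (exists_F' Q hQ hp u).choose_spec

theorem obsCls_eq_zero_iff (u : (DefB).obj C) :
    obsCls Q hQ hp u = 0 ↔ ∃ u', (DefB).map p u' = u := by
  obtain ⟨hu, hψ, h𝔓⟩ := (exists_choice Q hQ u).choose_spec.choose_spec.choose_spec
  constructor
  · intro h
    obtain ⟨ε, hε, hF'', hθ⟩ := (cls_eq_zero_iff Q hQ hp _ _ _).1 h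
    obtain ⟨D', φ, hφ, hπ⟩ := exists_lift_of_theta_eq_zero (surj Q hQ) (span_rel Q hQ) hp _ hψ (pack Q hQ u) h𝔓 _ hF'' hθ
    exact ⟨D'.toDef.cl, (DefGlue.map_cl (D'.mor _ φ hφ hπ)).trans hu⟩
  · rintro ⟨u', hu'⟩
    induction u' using Quotient.inductionOn with
    | h ξ' =>
      obtain ⟨D', ⟨e⟩⟩ := AffDef.exists_data ξ'
      have hcl : (DefB).map p D'.toDef.cl = (exists_choice Q hQ u).choose.toDef.cl := by
        rw [hu, ← hu']
        exact congrArg _ (Quotient.sound ⟨e⟩)
      obtain ⟨m⟩ := DefGlue.nonempty_mor hcl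
      let φ := Spec.preimage m.hom
      have hm : Spec.map φ = m.hom := Spec.map_preimage _
      have h1 : Spec.map (CommRingCat.ofHom (algebraMap (C' : Type u) D'.R) ≫ φ) =
          Spec.map (CommRingCat.ofHom (p.toAlgHom : (C' : Type u) →+* C) ≫
            CommRingCat.ofHom (algebraMap (C : Type u) (exists_choice Q hQ u).choose.R)) := by
        rw [Spec.map_comp, Spec.map_comp, hm]
        exact m.w
      have h2 : Spec.map (φ ≫ CommRingCat.ofHom (exists_choice Q hQ u).choose.π) = Spec.map (CommRingCat.ofHom D'.π) := by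
        rw [Spec.map_comp, hm]
        exact m.i_hom
      obtain ⟨F'', hF'', hθ⟩ := exists_theta_eq_zero (surj Q hQ) (span_rel Q hQ) hp _ hψ (pack Q hQ u) h𝔓 D' φ.hom
        (fun a => RingHom.congr_fun (congrArg CommRingCat.Hom.hom (Spec.map_injective h1)) a)
        (congrArg CommRingCat.Hom.hom (Spec.map_injective h2))
      rw [obsCls, cls_congr Q hQ hp _ _ _ F'' hF'', cls_eq_zero_iff]
      exact ⟨0, fun _ => map_zero _, fun s => by rw [sub_zero]; exact hF'' s, by simp only [sub_zero]; exact hθ⟩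

variable {K : Ideal (C' : Type u)} (hK : K ≤ IsLocalRing.maximalIdeal (C' : Type u))
  (hKJ : K ≤ RingHom.ker p.toAlgHom)

theorem Lmap_cmap_quot {z : MvPolynomial ι (C' : Type u)} (hz : cmap p z = 0) :
    Lmap (B₀ := B) (quotFactor hK p hKJ) (cmap (quotMk C' K hK) z) =
      bg ((kerToQuot hK p hKJ).restrictScalars k) (Lmap (B₀ := B) p z) := by
  rw [MvPolynomial.as_sum z, map_sum, map_sum, map_sum, map_sum]
  refine Finset.sum_congr rfl fun m _ => ?_
  let j : ↥(RingHom.ker p.toAlgHom) := ⟨_, RingHom.mem_ker.2 (coeff_mem_of_cmap_eq_zero p hz m)⟩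
  rw [show MvPolynomial.coeff m z = (j : (C' : Type u)) from rfl, Lmap_monomial_mem, cmap, MvPolynomial.map_monomial]
  exact (Lmap_monomial_mem (B₀ := B) (quotFactor hK p hKJ) m (kerToQuot hK p hKJ j)).trans (by rfl)

theorem obsCls_quot (hq : IsSemismallExt (quotFactor hK p hKJ)) (u : (DefB).obj C) :
    obsCls Q hQ hq u = CotT.T2map Q (bg ((kerToQuot hK p hKJ).restrictScalars k)) (obsCls Q hQ hp u) := by
  obtain ⟨F', hF', hdef⟩ : ∃ (F' : σ → MvPolynomial ι (C' : Type u)) (h : ∀ s, cmap p (F' s) = (pack Q hQ u).F s),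
      obsCls Q hQ hp u = cls Q hQ hp (pack Q hQ u) F' h := ⟨_, _, rfl⟩
  rw [hdef]
  let q := quotMk C' K hK
  have hcq : ∀ z : MvPolynomial ι (C' : Type u), cmap (quotFactor hK p hKJ) (cmap q z) = cmap p z := fun z => by
    simp only [cmap, MvPolynomial.map_map]
    rfl
  have hF'' : ∀ s, cmap (quotFactor hK p hKJ) ((cmap q ∘ F') s) = (pack Q hQ u).F s := fun s =>
    (hcq _).trans (hF' s)
  rw [obsCls, cls_congr Q hQ hq _ _ _ _ hF'']
  refine congrArg (CotT.toT2 Q _) (Submodule.linearMap_qext _ (TensorProduct.AlgebraTensorModule.ext fun b a => ?_))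
  show phi Q hQ hq _ _ hF'' (Submodule.Quotient.mk (b ⊗ₜ a)) = bg _ (phi Q hQ hp _ F' hF' (Submodule.Quotient.mk (b ⊗ₜ a)))
  rw [phi_tmul, phi_tmul, map_smul]
  congr 1
  obtain ⟨v, hv, hv'⟩ := exists_lift_rel hp (pack Q hQ u) ⟨a.1, mem_relK Q a⟩
  have hvq : vmap (cmap (quotFactor hK p hKJ)) (vmap (cmap q) v) = vmap (cmap p) v :=
    Finsupp.ext fun s => hcq _
  rw [theta_eq hp _ _ F' hF' _ hv hv', theta_eq hq _ _ (cmap q ∘ F') hF'' _ (v := vmap (cmap q) v)
    (by rw [← hv]; exact Finsupp.ext fun s => red_cmap q _) (by rw [hvq, hv']), ← map_lc,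
    Lmap_cmap_quot hK hKJ (by rw [cmap_lc (pack Q hQ u) F' hF', hv'])]

theorem finite_ker (p : C' ⟶ C) : Module.Finite k ↥(RingHom.ker p.toAlgHom) := by
  haveI := (ArtFunLib.finiteLength C').1
  let i : ↥(RingHom.ker p.toAlgHom) →ₗ[k] (C' : Type u) :=
    { toFun := fun j => (j : C'), map_add' := fun _ _ => rfl, map_smul' := fun _ _ => rfl }
  exact Module.Finite.of_injective i Subtype.val_injective

end Theory

section Final

set_option quotPrecheck false in
local notation "DefB" => defFunctor (Λ := k) (Spec (CommRingCat.of B)) (AffDef.str₀ k B)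

/-- Deformations of an affine scheme have obstructions in `T²`. -/
def obsTheory : ObsTheory (DefB) (CotT.T2 Q B) :=
  letI : Algebra (MvPolynomial ι k) B := inferInstanceAs (Algebra Q.toExtension.Ring B)
  haveI : IsScalarTower k (MvPolynomial ι k) B := inferInstanceAs (IsScalarTower k Q.toExtension.Ring B)
  { obs := fun {C' C} p hp u =>
      haveI := finite_ker p
      (coeffEquiv Q ↥(RingHom.ker p.toAlgHom)).symm (obsCls Q (fun _ => rfl) hp u)
    obs_eq_zero_iff := fun {C' C} p hp u => by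
      haveI := finite_ker p
      exact (LinearEquiv.map_eq_zero_iff _).trans (obsCls_eq_zero_iff Q (fun _ => rfl) hp u)
    obs_quot := fun {C' C} p hp K hK hKJ hq u => by
      haveI := finite_ker p
      haveI := finite_ker (quotFactor hK p hKJ)
      exact coeffEquiv_symm_natural Q ((kerToQuot hK p hKJ).restrictScalars k) _ _
        (obsCls_quot Q (fun _ => rfl) hp hK hKJ hq u) }

end Final

end Groth.Agent.AffObs29
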